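/-
The principal block at the Sylow 13-subgroup of a simple group of order 5616.
-/
import Cfsg.Agent.H20.PrincipalPrime
import Cfsg.Agent.H62.SelfCentralNumber
import Cfsg.Agent.H62.Order5472
import Cfsg.Agent.H62.DihedralBlock
import Cfsg.Agent.H62.InvertCount
import Cfsg.Agent.H24.DefectZero

set_option autoImplicit false
set_option linter.unusedSectionVars false
set_option linter.style.haveILetI false

open Cfsg Subgroup
open scoped ComplexConjugate

namespace H4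
namespace SmallOrder
namespace Unique5616

universe u

/-- The possible degrees. -/
def degs : List ℕ := (List.range 75).filter fun d => decide (5616 % d = 0) && decide (2 < d)

theorem mem_degs {d : ℕ} (h1 : d < 75) (h2 : d ∣ 5616) (h3 : 2 < d) : d ∈ degs := by
  rw [degs, List.mem_filter]
  exact ⟨List.mem_range.2 h1, by simp [Nat.mod_eq_zero_of_dvd h2, h3]⟩

set_option synthInstance.maxSize 8192 in
set_option synthInstance.maxHeartbeats 200000 in
theorem degree_triples : ∀ a ∈ degs, ∀ e₁ ∈ ([1, -1] : List ℤ), (13 : ℤ) ∣ (a : ℤ) - e₁ →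
    ∀ b ∈ degs, ∀ e₂ ∈ ([1, -1] : List ℤ), (13 : ℤ) ∣ (b : ℤ) - e₂ →
    ∀ d ∈ degs, ∀ ε ∈ ([1, -1] : List ℤ), (13 : ℤ) ∣ (d : ℤ) - ε * 3 →
    ε * d = 1 + e₁ * a + e₂ * b →
    d = 16 ∧ ε = 1 ∧ ((a = 27 ∧ e₁ = 1 ∧ b = 12 ∧ e₂ = -1) ∨ (b = 27 ∧ e₂ = 1 ∧ a = 12 ∧ e₁ = -1)) := by
  decide +kernel

variable {G : Type u} [Group G] [Fintype G]

/-- The characters not vanishing at the elements of order thirteen. -/
structure Data (x : G) where
  f : IrrCharacter G
  g : IrrCharacter G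
  θ : IrrCharacter G
  Y : Finset (IrrCharacter G)
  mem_Y : θ ∈ Y
  card_Y : Y.card = 4
  ne_f : f ≠ H12.oneIrr G
  ne_g : g ≠ H12.oneIrr G
  ne_fg : f ≠ g
  one_notMem : H12.oneIrr G ∉ Y
  f_notMem : f ∉ Y
  g_notMem : g ∉ Y
  deg_f : H12.degree (f : G → ℂ) = 27
  deg_g : H12.degree (g : G → ℂ) = 12
  deg_Y : ∀ ψ ∈ Y, H12.degree (ψ : G → ℂ) = 16
  val_f : (f : G → ℂ) x = 1
  val_g : (g : G → ℂ) x = -1
  val_other : ∀ ψ, ψ ≠ H12.oneIrr G → ψ ≠ f → ψ ≠ g → ψ ∉ Y → ∀ u ∈ Subgroup.zpowers x, u ≠ 1 →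
    (ψ : G → ℂ) u = 0
  x_ne : x ≠ 1
  sum_Y : ∑ ψ ∈ Y, (ψ : G → ℂ) x = -1
  reg_Y : ∀ ψ ∈ Y, ∀ z : G, ¬ 13 ∣ orderOf z → (ψ : G → ℂ) z = (θ : G → ℂ) z
  rel : ∀ z : G, ¬ 13 ∣ orderOf z → (θ : G → ℂ) z = 1 + (f : G → ℂ) z - (g : G → ℂ) z

variable [IsSimpleGroup G]

theorem local_thirteen (h : Nat.card G = 5616) (P : Sylow 13 G) :
    Nat.card (P : Subgroup G) = 13 ∧
    centralizer ((P : Subgroup G) : Set G) = (P : Subgroup G) ∧
    Nat.card (normalizer ((P : Subgroup G) : Set G)) = 39 := by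
  haveI : Fact (Nat.Prime 13) := ⟨by norm_num⟩
  obtain ⟨hP, hC, e, he, hN⟩ := H62.normalizer_threePrimes (p := 2) (q := 3) (r := 13) (a := 4)
    (b := 3) Nat.prime_two Nat.prime_three (by decide) (by decide) (by decide)
    (h.trans (by norm_num)) (by norm_num) P
  rw [show H62.selfCentralIndices (2 ^ 4 * 3 ^ 3 * 13) 13 = {3} by decide +kernel,
    Finset.mem_singleton] at he
  subst he
  exact ⟨hP, hC, hN.trans (by norm_num)⟩

theorem exists_data (h : Nat.card G = 5616) [Fact (Nat.Prime 13)] (P : Sylow 13 G) {x : G}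
    (hx : x ∈ (P : Subgroup G)) (hx1 : x ≠ 1) : Nonempty (Data x) := by
  classical
  have hG : ¬ IsMulCommutative G := H62.not_comm_of_not_prime (by rw [h]; norm_num)
  have heven : Even (Nat.card G) := by rw [h]; decide
  obtain ⟨hP, hC, hN⟩ := local_thirteen h P
  obtain ⟨M, hM⟩ := H20.exists_isPModular (p := 13) (by norm_num)
  haveI := H20.isPrime_of_modular hM
  have haut : Nat.card (H20.autG (P : Subgroup G)) = 3 := by
    rw [H20.card_autG, hC, Subgroup.relIndex]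
    have h1 := Subgroup.card_mul_index
      ((P : Subgroup G).subgroupOf (normalizer ((P : Subgroup G) : Set G)))
    rw [hN, Nat.card_congr (subgroupOfEquivOfLe le_normalizer).toEquiv, hP] at h1
    omega
  obtain ⟨D⟩ := H20.PrimeSylow.exists_primeData (P := P) hP hM
  generalize Nat.card (H20.autG (P : Subgroup G)) = e at haut D
  subst haut
  set one := H12.oneIrr G with hone
  obtain ⟨X, hX⟩ : ∃ X : Finset (IrrCharacter G), X = D.X.toFinset := ⟨_, rfl⟩
  obtain ⟨Y, hY⟩ : ∃ Y : Finset (IrrCharacter G), Y = D.Y.toFinset := ⟨_, rfl⟩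
  have hXmem : ∀ ψ, ψ ∈ X ↔ ψ ∈ D.X := fun ψ => by rw [hX]; exact Set.mem_toFinset
  have hYmem : ∀ ψ, ψ ∈ Y ↔ ψ ∈ D.Y := fun ψ => by rw [hY]; exact Set.mem_toFinset
  have hXc : X.card = 3 := by
    rw [hX, ← Nat.card_eq_card_toFinset, D.card_X]
  have hYc : Y.card = 4 := by
    rw [hY, ← Nat.card_eq_card_toFinset, D.card_Y]
  have hd1 : H12.degree (one : G → ℂ) = 1 := by rw [hone]; simp [H12.degree, H12.oneIrr_apply]
  have hnot1 : ¬ 13 ∣ orderOf (1 : G) := by rw [orderOf_one]; norm_num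
  obtain ⟨θ, hθ⟩ : Y.Nonempty := Finset.card_pos.1 (by omega)
  have hθY := (hYmem θ).1 hθ
  have honeX : one ∈ X := by
    rw [hXmem]
    have hB : one ∈ principalBlock M G := H20.mem_blockOf_self (M := M) (H12.oneIrr G)
    rw [D.union] at hB
    refine hB.resolve_right fun hc => ?_
    have hdeg := D.degY one hc
    rw [hd1] at hdeg
    have hd := Int.ModEq.dvd hdeg
    rcases D.ε_eq with he | he <;> rw [he] at hd <;> norm_num at hd
  obtain ⟨f', g', hfg, hfgX⟩ := Finset.card_eq_two.1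
    (show (X.erase one).card = 2 by rw [Finset.card_erase_of_mem honeX, hXc])
  have hXeq : X = {one, f', g'} := by
    rw [← Finset.insert_erase honeX, hfgX]
  have hmem : ∀ ψ ∈ X.erase one, ψ ∈ D.X ∧ ψ ≠ one := fun ψ hψ =>
    ⟨(hXmem ψ).1 (Finset.mem_of_mem_erase hψ), Finset.ne_of_mem_erase hψ⟩
  have hf' := hmem f' (by rw [hfgX]; simp)
  have hg' := hmem g' (by rw [hfgX]; simp)
  have hε1 : D.εX one = 1 := by
    have := D.valX one ((hXmem _).1 honeX) x hx hx1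
    rw [hone, H12.oneIrr_apply] at this
    exact_mod_cast this.symm
  have hrel : ∀ z : G, ¬ 13 ∣ orderOf z → (D.ε : ℂ) * (θ : G → ℂ) z =
      1 + (D.εX f' : ℂ) * (f' : G → ℂ) z + (D.εX g' : ℂ) * (g' : G → ℂ) z := by
    intro z hz
    have h1 := D.rel θ hθY z hz
    rw [H62.finsum_mem_eq_sum_of_mem _ hXmem, hXeq, Finset.sum_insert (by
      simp only [Finset.mem_insert, Finset.mem_singleton, not_or]
      exact ⟨hf'.2.symm, hg'.2.symm⟩), Finset.sum_pair hfg, hε1, hone, H12.oneIrr_apply] at h1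
    rw [h1]; push_cast; ring
  have hbounds : ∀ ψ, ψ ≠ one → H12.degree (ψ : G → ℂ) ∈ degs := by
    intro ψ hψ
    obtain ⟨h2, hdvd, hsq⟩ := H62.degree_bounds hG heven (χ := ψ) hψ
    rw [h] at hdvd hsq
    exact mem_degs (by nlinarith) hdvd h2
  have hcongr : ∀ ψ ∈ D.X, (13 : ℤ) ∣ (H12.degree (ψ : G → ℂ) : ℤ) - D.εX ψ := by
    intro ψ hψ
    have := H20.PrimeSylow.degree_modEq hM ψ hx (c := D.εX ψ) (by
      rw [D.valX ψ hψ x hx hx1, sub_self]; exact H20.memIdeal_zero)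
    exact Int.modEq_iff_dvd.1 this.symm
  have hθne : θ ≠ one := fun hc => Set.disjoint_left.1 D.disj ((hXmem _).1 honeX) (hc ▸ hθY)
  have hθc : (13 : ℤ) ∣ (H12.degree (θ : G → ℂ) : ℤ) - D.ε * 3 := by
    have := D.degY θ hθY
    exact Int.modEq_iff_dvd.1 this.symm
  have hdeg : D.ε * (H12.degree (θ : G → ℂ) : ℤ) = 1 + D.εX f' * (H12.degree (f' : G → ℂ) : ℤ) +
      D.εX g' * (H12.degree (g' : G → ℂ) : ℤ) := by
    have := hrel 1 hnot1
    simp only [H12.irr_apply_one] at this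
    exact_mod_cast this
  obtain ⟨hd16, hε, hor⟩ := degree_triples _ (hbounds f' hf'.2) _
    (by rcases D.εX_eq f' hf'.1 with e | e <;> simp [e]) (hcongr f' hf'.1) _ (hbounds g' hg'.2) _
    (by rcases D.εX_eq g' hg'.1 with e | e <;> simp [e]) (hcongr g' hg'.1) _ (hbounds θ hθne) D.ε
    (by rcases D.ε_eq with e | e <;> simp [e]) hθc hdeg
  obtain ⟨f, g, hfg, hX3, hf, hg, hf27, hg12, hef, heg, hsum⟩ : ∃ f g, f ≠ g ∧ X = {one, f, g} ∧
      (f ∈ D.X ∧ f ≠ one) ∧ (g ∈ D.X ∧ g ≠ one) ∧ H12.degree (f : G → ℂ) = 27 ∧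
      H12.degree (g : G → ℂ) = 12 ∧ D.εX f = 1 ∧ D.εX g = -1 ∧
      ∀ z : G, ¬ 13 ∣ orderOf z → (θ : G → ℂ) z = 1 + (f : G → ℂ) z - (g : G → ℂ) z := by
    rcases hor with ⟨a1, a2, a3, a4⟩ | ⟨a1, a2, a3, a4⟩
    · refine ⟨f', g', hfg, hXeq, hf', hg', a1, a3, a2, a4, fun z hz => ?_⟩
      have := hrel z hz
      rw [hε, a2, a4] at this
      push_cast at this
      linear_combination this
    · refine ⟨g', f', hfg.symm, by rw [hXeq, Finset.pair_comm], hg', hf', a1, a3, a2, a4,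
        fun z hz => ?_⟩
      have := hrel z hz
      rw [hε, a2, a4] at this
      push_cast at this
      linear_combination this
  have hYdeg : ∀ ψ ∈ Y, H12.degree (ψ : G → ℂ) = 16 := by
    intro ψ hψ
    have h1 := D.regY ψ ((hYmem _).1 hψ) θ hθY 1 hnot1
    rw [H12.irr_apply_one, H12.irr_apply_one, hd16] at h1
    exact_mod_cast h1
  have hdisj : ∀ ψ ∈ D.X, ψ ∉ Y := fun ψ hψ hc => Set.disjoint_left.1 D.disj hψ ((hYmem _).1 hc)
  set B : Finset (IrrCharacter G) := X ∪ Y with hB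
  have hBmem : ∀ ψ, ψ ∈ B ↔ ψ ∈ principalBlock M G := by
    intro ψ
    rw [hB, Finset.mem_union, hXmem, hYmem, D.union]
    rfl
  have hvan' : ∀ u ∈ (P : Subgroup G), u ≠ 1 → ∀ ψ ∉ B, (ψ : G → ℂ) u = 0 := by
    intro u hu hu1
    have h1 := H12.column_orthogonality u u
    rw [if_pos (IsConj.refl u), H62.centralizer_eq_of_mem hP hC hu hu1, hP,
      ← Finset.sum_sdiff (Finset.subset_univ B)] at h1
    have h2 := (H20.PrimeSylow.freeSylow hP).column_self hM hu hu1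
    rw [H62.finsum_mem_eq_sum_of_mem _ hBmem, hP] at h2
    rw [h2, add_eq_right] at h1
    simp only [Complex.mul_conj, ← Complex.ofReal_sum, Complex.ofReal_eq_zero] at h1
    intro ψ hψ
    exact Complex.normSq_eq_zero.1 ((Finset.sum_eq_zero_iff_of_nonneg fun _ _ =>
      Complex.normSq_nonneg _).1 h1 ψ (Finset.mem_sdiff.2 ⟨Finset.mem_univ _, hψ⟩))
  have hvan := hvan' x hx hx1
  have hvx : (f : G → ℂ) x = 1 := by rw [D.valX f hf.1 x hx hx1, hef]; norm_num
  have hvy : (g : G → ℂ) x = -1 := by rw [D.valX g hg.1 x hx hx1, heg]; norm_num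
  have hsumY : ∑ ψ ∈ Y, (ψ : G → ℂ) x = -1 := by
    have h1 := H12.regular_eq_sum x
    rw [if_neg hx1, ← Finset.sum_subset (Finset.subset_univ B) (fun ψ _ hψ => by rw [hvan ψ hψ, mul_zero]),
      hB, Finset.sum_union (Finset.disjoint_left.2 fun ψ h1 h2 => hdisj ψ ((hXmem ψ).1 h1) h2), hX3,
      Finset.sum_insert (by
        simp only [Finset.mem_insert, Finset.mem_singleton, not_or]
        exact ⟨hf.2.symm, hg.2.symm⟩), Finset.sum_pair hfg,
      Finset.sum_congr rfl (g := fun ψ : IrrCharacter G => (16 : ℂ) * (ψ : G → ℂ) x) (fun ψ hψ => by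
        rw [H12.irr_apply_one, hYdeg ψ hψ]; norm_num), ← Finset.mul_sum] at h1
    simp only [H12.irr_apply_one, hd1, hf27, hg12, hvx, hvy, hone, H12.oneIrr_apply] at h1
    push_cast at h1
    linear_combination (1 / 16 : ℂ) * h1
  exact ⟨{
    f := f, g := g, θ := θ, Y := Y, mem_Y := hθ, card_Y := hYc
    ne_f := hf.2, ne_g := hg.2, ne_fg := hfg
    one_notMem := hdisj _ ((hXmem _).1 honeX)
    f_notMem := hdisj _ hf.1, g_notMem := hdisj _ hg.1
    deg_f := hf27, deg_g := hg12, deg_Y := hYdeg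
    val_f := hvx, val_g := hvy
    val_other := fun ψ h1 h2 h3 h4 u hu hu1 => hvan' u (Subgroup.zpowers_le.2 hx hu) hu1 ψ (by
      rw [hB, hX3]; simp [h4]; exact ⟨h1, h2, h3⟩)
    x_ne := hx1
    sum_Y := hsumY
    reg_Y := fun ψ hψ z hz => D.regY ψ ((hYmem _).1 hψ) θ hθY z hz
    rel := hsum }⟩

namespace Data

variable {x : G} (D : Data x)

/-- A sum against the column of `x` only involves the eight characters of the block. -/
theorem sum_eq (F : IrrCharacter G → ℂ) (hF : ∀ ψ ∈ D.Y, F ψ = F D.θ) :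
    ∑ ψ : IrrCharacter G, (ψ : G → ℂ) x * F ψ = F (H12.oneIrr G) + F D.f - F D.g - F D.θ := by
  classical
  rw [← Finset.sum_subset (Finset.subset_univ (({H12.oneIrr G, D.f, D.g} : Finset (IrrCharacter G)) ∪ D.Y))
    (fun ψ _ hψ => by
      simp only [Finset.mem_union, Finset.mem_insert, Finset.mem_singleton, not_or] at hψ
      rw [D.val_other ψ hψ.1.1 hψ.1.2.1 hψ.1.2.2 hψ.2 x (mem_zpowers x) D.x_ne, zero_mul]),
    Finset.sum_union (by
      rw [Finset.disjoint_left]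
      intro ψ h1 h2
      simp only [Finset.mem_insert, Finset.mem_singleton] at h1
      rcases h1 with rfl | rfl | rfl
      · exact D.one_notMem h2
      · exact D.f_notMem h2
      · exact D.g_notMem h2),
    Finset.sum_insert (by
      simp only [Finset.mem_insert, Finset.mem_singleton, not_or]
      exact ⟨D.ne_f.symm, D.ne_g.symm⟩), Finset.sum_pair D.ne_fg,
    Finset.sum_congr rfl (g := fun ψ : IrrCharacter G => (ψ : G → ℂ) x * F D.θ) (fun ψ hψ => by
      rw [hF ψ hψ]), ← Finset.sum_mul, D.sum_Y, D.val_f, D.val_g, H12.oneIrr_apply]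
  ring

/-- The class algebra constant at `x` of two elements of order prime to thirteen. -/
theorem class_value (h : Nat.card G = 5616) {z w : G} (hz : ¬ 13 ∣ orderOf z) (hw : ¬ 13 ∣ orderOf w) :
    (Nat.card {a : G // IsConj (x * (a * z * a⁻¹)) w} : ℂ) *
        (Nat.card (centralizer ({w} : Set G)) : ℂ) =
      5616 * (1 + (D.f : G → ℂ) z * conj ((D.f : G → ℂ) w) / 27 -
        (D.g : G → ℂ) z * conj ((D.g : G → ℂ) w) / 12 -
        (D.θ : G → ℂ) z * conj ((D.θ : G → ℂ) w) / 16) := by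
  rw [H62.card_product_class_eq_sum x z w, h]
  have h1 := D.sum_eq (fun ψ => (ψ : G → ℂ) z * conj ((ψ : G → ℂ) w) / (ψ : G → ℂ) 1)
    (fun ψ hψ => by
      simp only [D.reg_Y ψ hψ z hz, D.reg_Y ψ hψ w hw, H12.irr_apply_one, D.deg_Y ψ hψ,
        D.deg_Y _ D.mem_Y])
  simp only [H12.irr_apply_one, D.deg_f, D.deg_g, D.deg_Y _ D.mem_Y, H12.oneIrr_apply, map_one,
    show H12.degree ((H12.oneIrr G : IrrCharacter G) : G → ℂ) = 1 by
      simp [H12.degree, H12.oneIrr_apply]] at h1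
  push_cast at h1 ⊢
  congr 1
  rw [Finset.sum_congr rfl (fun (ψ : IrrCharacter G) _ => show (ψ : G → ℂ) x * (ψ : G → ℂ) z *
      conj ((ψ : G → ℂ) w) / (ψ : G → ℂ) 1 =
      (ψ : G → ℂ) x * ((ψ : G → ℂ) z * conj ((ψ : G → ℂ) w) / (ψ : G → ℂ) 1) by ring)]
  simp only [H12.irr_apply_one]
  rw [h1]
  ring

end Data

end Unique5616
end SmallOrder
end H4
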