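/-
The centraliser order and the number of involutions of a simple group of order 5616.
-/
import Cfsg.Agent.H4.SmallOrder.Unique.Block5616
import Cfsg.Agent.H62.SelfCentral
import Cfsg.Agent.H65.Order720
import Cfsg.Agent.H25.Indicator
import Cfsg.Agent.H13.RealLinTwist

set_option autoImplicit false
set_option linter.unusedSectionVars false
set_option linter.style.haveILetI false

open Cfsg Subgroup
open scoped ComplexConjugate

namespace H4
namespace SmallOrder
namespace Unique5616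

universe u

variable {G : Type u} [Group G] [Fintype G] [IsSimpleGroup G]

theorem exists_x (h : Nat.card G = 5616) [Fact (Nat.Prime 13)] :
    ∃ (P : Sylow 13 G) (x : G), x ∈ (P : Subgroup G) ∧ x ≠ 1 ∧ Nonempty (Data x) := by
  obtain ⟨P⟩ := (inferInstance : Nonempty (Sylow 13 G))
  obtain ⟨x, hx, hx1, -⟩ := H65.exists_sylow_generator P (local_thirteen h P).1
  exact ⟨P, x, hx, hx1, exists_data h P hx hx1⟩

/-- The centraliser of a nontrivial element of order prime to thirteen. -/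
theorem centralizer_dvd (h : Nat.card G = 5616) {z : G} (hz1 : z ≠ 1) (hz : ¬ 13 ∣ orderOf z) :
    Nat.card (centralizer ({z} : Set G)) ∣ 432 := by
  haveI : Fact (Nat.Prime 13) := ⟨by norm_num⟩
  have hd : Nat.card (centralizer ({z} : Set G)) ∣ 13 * 432 := by
    have := (centralizer ({z} : Set G)).card_subgroup_dvd_card
    rwa [h] at this
  refine Nat.Coprime.dvd_of_dvd_mul_left ?_ hd
  refine ((Nat.Prime.coprime_iff_not_dvd (by norm_num)).2 fun h13 => hz ?_).symm
  obtain ⟨u, hu⟩ := exists_prime_orderOf_dvd_card' (G := centralizer ({z} : Set G)) 13 h13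
  have huo : orderOf (u : G) = 13 := by rw [Subgroup.orderOf_coe, hu]
  have hC := H62.centralizer_singleton_eq_zpowers (fun P => (local_thirteen h P).1)
    (fun P => (local_thirteen h P).2.1) huo
  have hzu : z ∈ zpowers (u : G) := hC ▸ mem_centralizer_singleton_iff.2
    (mem_centralizer_singleton_iff.1 u.2).symm
  have hdz : orderOf z ∣ 13 := by rw [← huo, ← Nat.card_zpowers (u : G)]
                                  exact Subgroup.orderOf_dvd_natCard _ hzu
  rcases (Nat.dvd_prime (by norm_num)).1 hdz with h1 | h1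
  · exact absurd (orderOf_eq_one_iff.1 h1) hz1
  · exact dvd_of_eq h1.symm

theorem dvd_index_mul (χ : IrrCharacter G) (g : G) {r : ℤ} (hr : (χ : G → ℂ) g = (r : ℂ)) :
    (H12.degree (χ : G → ℂ) : ℤ) ∣ ((centralizer ({g} : Set G)).index : ℤ) * r := by
  have hpos : H12.degree (χ : G → ℂ) ≠ 0 := (H12.irr_degree_pos χ).ne'
  set D := H12.degree (χ : G → ℂ) with hD
  set c := (centralizer ({g} : Set G)).index
  obtain ⟨n, ρ, hρ, h⟩ := χ.2
  haveI := hρ
  have hi := H12.isIntegral_classSize_mul_char_div ρ g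
  have hdeg : (Module.finrank ℂ (Fin n → ℂ)) = D := by
    rw [← H12.degree_character ρ, h]
  rw [hdeg, congrFun h g, hr] at hi
  have hq : ((c : ℂ) * (r : ℂ) / (D : ℂ)) = ((((c : ℤ) * r : ℤ) : ℚ) / (D : ℚ) : ℚ) := by
    push_cast; rfl
  rw [hq] at hi
  obtain ⟨z, hz⟩ := H12.exists_int_of_isIntegral_rat hi
  refine ⟨z, ?_⟩
  have hz' : (z : ℚ) * (D : ℚ) = (((c : ℤ) * r : ℤ) : ℚ) := by
    rw [hz, div_mul_cancel₀]
    exact_mod_cast hpos
  have : z * (D : ℤ) = (c : ℤ) * r := by exact_mod_cast hz'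
  linarith

/-- A character of degree the full `p`-part vanishes at elements of order `p`. -/
theorem vanish_full (h : Nat.card G = 5616) {p d a : ℕ} (hp : p.Prime) (hd : d = p ^ a)
    (hm : ∃ m, 5616 = p ^ a * m ∧ ¬ p ∣ m) (χ : IrrCharacter G)
    (hχ : H12.degree (χ : G → ℂ) = d) {z : G} (hz : orderOf z = p) : (χ : G → ℂ) z = 0 := by
  obtain ⟨m, hm, hpm⟩ := hm
  obtain ⟨M, hM⟩ := H20.exists_isPModular (p := p) hp
  have hm0 : m ≠ 0 := fun h0 => hpm (h0 ▸ dvd_zero p)
  refine H24.vanish_of_defect_zero hM χ ?_ z (fun h1 => ?_) ⟨1, ?_⟩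
  · rw [show charDegree (χ : G → ℂ) = p ^ a from hχ.trans hd, h, hm,
      Nat.factorization_mul (pow_ne_zero _ hp.ne_zero) hm0, Finsupp.add_apply,
      Nat.factorization_eq_zero_of_not_dvd hpm, add_zero]
  · rw [h1, orderOf_one] at hz; exact hp.ne_one hz.symm
  · rw [pow_one, ← hz, pow_orderOf_eq_one]

/-- The values at an involution. -/
theorem Data.involution_values {x : G} (D : Data x) (h : Nat.card G = 5616) [Fact (Nat.Prime 13)]
    {P : Sylow 13 G} (hx : x ∈ (P : Subgroup G)) (hx1 : x ≠ 1) {t : G} (ht : orderOf t = 2) :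
    (D.f : G → ℂ) t = 3 ∧ (D.g : G → ℂ) t = 4 ∧ (D.θ : G → ℂ) t = 0 := by
  have hG : ¬ IsMulCommutative G := H62.not_comm_of_not_prime (by rw [h]; norm_num)
  have hna : Subgroup.center G ≠ ⊤ := fun hc =>
    hG ⟨⟨fun a b => (Subgroup.mem_center_iff.1 (hc ▸ Subgroup.mem_top b) a)⟩⟩
  obtain ⟨hP, hC, hN⟩ := local_thirteen h P
  have hθ : (D.θ : G → ℂ) t = 0 := vanish_full h (p := 2) (d := 16) (a := 4) Nat.prime_two (by norm_num)
    ⟨351, by norm_num, by norm_num⟩ D.θ (D.deg_Y _ D.mem_Y) ht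
  obtain ⟨v₁, hv₁, h4⟩ := H65.irr_involution_congr hna D.f ht
  obtain ⟨v₂, hv₂, -⟩ := H65.irr_involution_congr hna D.g ht
  have hrel := D.rel t (by rw [ht]; norm_num)
  rw [hθ, hv₁, hv₂] at hrel
  have hv : v₂ = 1 + v₁ := by
    have : ((v₂ : ℤ) : ℂ) = ((1 + v₁ : ℤ) : ℂ) := by push_cast; linear_combination hrel
    exact_mod_cast this
  have hno : Nat.card {a : G // IsConj (x * (a * t * a⁻¹)) t} = 0 := by
    haveI : IsEmpty {a : G // IsConj (x * (a * t * a⁻¹)) t} := by
      refine ⟨fun a => ?_⟩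
      obtain ⟨a, ha⟩ := a
      have htt : t * t = 1 := by rw [← pow_two, ← ht, pow_orderOf_eq_one]
      set s := a * t * a⁻¹ with hs
      have hss : s * s = 1 := H62.sq_conj_eq_one htt a
      obtain ⟨b, hb⟩ := isConj_iff.1 ha.symm
      have hxs : x * s * (x * s) = 1 := by rw [← hb]; exact H62.sq_conj_eq_one htt b
      have hsx : s * x * s⁻¹ = x⁻¹ := by
        rw [inv_eq_of_mul_eq_one_right hss]
        exact eq_inv_of_mul_eq_one_right (by simpa [mul_assoc] using hxs)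
      have hso : orderOf s = 2 := by rw [hs, ← MulAut.conj_apply, MulEquiv.orderOf_eq, ht]
      have hPx : (P : Subgroup G) = zpowers x := (H20.PrimeSylow.zpowers_eq hP hx hx1).symm
      have hsN : s ∈ normalizer ((P : Subgroup G) : Set G) := by
        rw [mem_normalizer_iff_map_conj_eq]
        refine eq_of_le_of_card_ge ?_ (card_map_of_injective (MulAut.conj s).injective).ge
        rw [hPx, MonoidHom.map_zpowers, zpowers_le]
        simp [hsx]
      have := Subgroup.orderOf_dvd_natCard _ hsN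
      rw [hso, hN] at this
      norm_num at this
    exact Nat.card_of_isEmpty
  have hcv := D.class_value h (z := t) (w := t) (by rw [ht]; norm_num) (by rw [ht]; norm_num)
  rw [hno, hθ, hv₁, hv₂, hv] at hcv
  simp only [map_intCast] at hcv
  push_cast at hcv
  have h0 : (-5 * v₁ ^ 2 - 18 * v₁ + 99 : ℤ) = 0 := by
    have : ((-5 * v₁ ^ 2 - 18 * v₁ + 99 : ℤ) : ℂ) = ((0 : ℤ) : ℂ) := by
      push_cast
      linear_combination -(108 / 5616 : ℂ) * hcv
    exact_mod_cast this
  have h3 : v₁ = 3 := by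
    have : (v₁ - 3) * (5 * v₁ + 33) = 0 := by linear_combination -h0
    rcases mul_eq_zero.1 this with h' | h' <;> omega
  subst h3
  refine ⟨by rw [hv₁]; norm_num, by rw [hv₂, hv]; norm_num, hθ⟩

/-- The centraliser of an involution has order 48. -/
theorem card_centralizer_involution (h : Nat.card G = 5616) {t : G} (ht : orderOf t = 2) :
    Nat.card (centralizer ({t} : Set G)) = 48 := by
  classical
  haveI : Fact (Nat.Prime 13) := ⟨by norm_num⟩
  obtain ⟨P, x, hx, hx1, ⟨D⟩⟩ := exists_x h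
  obtain ⟨hf, hg, hθ⟩ := D.involution_values h hx hx1 ht
  set c := Nat.card (centralizer ({t} : Set G)) with hc
  have ht1 : t ≠ 1 := fun h1 => by rw [h1, orderOf_one] at ht; omega
  have hd : c ∣ 432 := centralizer_dvd h ht1 (by rw [ht]; norm_num)
  have h27 := dvd_index_mul D.f t (r := 3) (by rw [hf]; norm_num)
  rw [D.deg_f] at h27
  have hidx := (centralizer ({t} : Set G)).card_mul_index
  rw [← hc, h] at hidx
  have h9 : 9 ∣ (centralizer ({t} : Set G)).index := by
    have : (9 : ℤ) ∣ ((centralizer ({t} : Set G)).index : ℤ) := by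
      obtain ⟨k, hk⟩ := h27
      exact ⟨k, by push_cast at hk ⊢; omega⟩
    exact_mod_cast this
  have h26 : (26 : ℝ) ≤ c := by
    have hcol := H12.column_orthogonality t t
    rw [if_pos (IsConj.refl t), ← hc] at hcol
    have hcol' : ∑ ψ : IrrCharacter G, Complex.normSq ((ψ : G → ℂ) t) = (c : ℝ) := by
      apply Complex.ofReal_injective
      push_cast
      rw [← hcol]
      exact Finset.sum_congr rfl fun ψ _ => (Complex.mul_conj _).symm
    rw [← hcol']
    refine le_trans ?_ (Finset.sum_le_sum_of_subset_of_nonneg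
      (Finset.subset_univ ({H12.oneIrr G, D.f, D.g} : Finset (IrrCharacter G)))
      fun ψ _ _ => Complex.normSq_nonneg _)
    rw [Finset.sum_insert (by
      simp only [Finset.mem_insert, Finset.mem_singleton, not_or]
      exact ⟨D.ne_f.symm, D.ne_g.symm⟩), Finset.sum_pair D.ne_fg, hf, hg, H12.oneIrr_apply]
    norm_num [Complex.normSq_ofNat]
  have h26' : 26 ≤ c := by exact_mod_cast h26
  obtain ⟨j, hj⟩ := h9
  have h624 : c ∣ 624 := ⟨j, by rw [hj] at hidx; nlinarith⟩
  have h48 : c ∣ 48 := (show Nat.gcd 432 624 = 48 by norm_num) ▸ Nat.dvd_gcd hd h624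
  obtain ⟨i, hi⟩ := h48
  rcases Nat.lt_or_ge i 2 with hi2 | hi2
  · interval_cases i <;> omega
  · nlinarith

/-- The squares one. -/
theorem card_sq_eq_one_le (h : Nat.card G = 5616) : Nat.card {s : G // s * s = 1} ≤ 286 := by
  classical
  haveI : Fact (Nat.Prime 13) := ⟨by norm_num⟩
  have hG : ¬ IsMulCommutative G := H62.not_comm_of_not_prime (by rw [h]; norm_num)
  have hna : Subgroup.center G ≠ ⊤ := fun hc =>
    hG ⟨⟨fun a b => (Subgroup.mem_center_iff.1 (hc ▸ Subgroup.mem_top b) a)⟩⟩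
  obtain ⟨P, x, hx, hx1, ⟨D⟩⟩ := exists_x h
  haveI : Fact (Nat.Prime 2) := ⟨Nat.prime_two⟩
  obtain ⟨t, ht⟩ := exists_prime_orderOf_dvd_card' (G := G) 2 (by rw [h]; norm_num)
  have ht1 : t ≠ 1 := fun h1 => by rw [h1, orderOf_one] at ht; omega
  obtain ⟨hf, hg, hθ⟩ := D.involution_values h hx hx1 ht
  have hv' := fun χ : IrrCharacter G => H65.irr_involution_congr hna χ ht
  choose v hv hv4 using hv'
  obtain ⟨d, hd⟩ : ∃ d : IrrCharacter G → ℕ, ∀ χ : IrrCharacter G, H12.degree (χ : G → ℂ) = d χ :=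
    ⟨_, fun _ => rfl⟩
  set B : Finset (IrrCharacter G) := {H12.oneIrr G, D.f, D.g} ∪ D.Y with hB
  have hBsum : ∀ F : IrrCharacter G → ℤ,
      ∑ ψ ∈ B, F ψ = F (H12.oneIrr G) + F D.f + F D.g + ∑ ψ ∈ D.Y, F ψ := by
    intro F
    rw [hB, Finset.sum_union (by
      rw [Finset.disjoint_left]
      intro ψ h1 h2
      simp only [Finset.mem_insert, Finset.mem_singleton] at h1
      rcases h1 with rfl | rfl | rfl
      · exact D.one_notMem h2
      · exact D.f_notMem h2
      · exact D.g_notMem h2), Finset.sum_insert (by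
      simp only [Finset.mem_insert, Finset.mem_singleton, not_or]
      exact ⟨D.ne_f.symm, D.ne_g.symm⟩), Finset.sum_pair D.ne_fg]
    ring
  have hd1 : d (H12.oneIrr G) = 1 := by rw [← hd]; simp [H12.degree, H12.oneIrr_apply]
  have hdf : d D.f = 27 := by rw [← hd, D.deg_f]
  have hdg : d D.g = 12 := by rw [← hd, D.deg_g]
  have hdY : ∀ ψ ∈ D.Y, d ψ = 16 := fun ψ hψ => by rw [← hd, D.deg_Y ψ hψ]
  have hint : ∀ (ψ : IrrCharacter G) (m : ℤ), (ψ : G → ℂ) t = m → v ψ = m := fun ψ m hm =>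
    Int.cast_injective (α := ℂ) ((hv ψ).symm.trans hm)
  have hv1 : v (H12.oneIrr G) = 1 := hint _ 1 (by rw [H12.oneIrr_apply]; norm_num)
  have hvf : v D.f = 3 := hint _ 3 (by rw [hf]; norm_num)
  have hvg : v D.g = 4 := hint _ 4 (by rw [hg]; norm_num)
  have hvY : ∀ ψ ∈ D.Y, v ψ = 0 := fun ψ hψ => hint _ 0 (by
    rw [D.reg_Y ψ hψ t (by rw [ht]; norm_num), hθ]; norm_num)
  -- the characters outside the block
  have h13 : ∀ ψ ∉ B, (13 : ℤ) ∣ (d ψ : ℤ) := by
    intro ψ hψ
    obtain ⟨hP, hC, hN⟩ := local_thirteen h P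
    haveI : Fintype (P : Subgroup G) := Fintype.ofFinite _
    obtain ⟨m, hm⟩ := H12.IsCharacter.classInner_nat
      (H12.IsCharacter.res (H12.isCharacter_irr ψ) (P : Subgroup G))
      (H12.isCharacter_monoidHom (1 : (P : Subgroup G) →* ℂˣ))
    rw [H12.classInner_def, ← Finset.add_sum_erase _ _ (Finset.mem_univ (1 : (P : Subgroup G))),
      Finset.sum_congr rfl (g := fun _ => (0 : ℂ)) (fun u hu => by
        have hu1 : (u : G) ≠ 1 := fun h1 => Finset.ne_of_mem_erase hu (Subtype.ext h1)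
        have hψ' := hψ
        simp only [hB, Finset.mem_union, Finset.mem_insert, Finset.mem_singleton, not_or] at hψ'
        have : (ψ : G → ℂ) u = 0 := D.val_other ψ hψ'.1.1 hψ'.1.2.1 hψ'.1.2.2 hψ'.2 u
          (by rw [H20.PrimeSylow.zpowers_eq hP hx hx1]; exact u.2) hu1
        simp [this]), Finset.sum_const_zero, add_zero, hP] at hm
    simp only [OneMemClass.coe_one, MonoidHom.one_apply, Units.val_one, map_one, mul_one,
      H12.irr_apply_one, hd, Nat.cast_one] at hm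
    rw [inv_mul_eq_iff_eq_mul₀ (by norm_num)] at hm
    refine ⟨m, ?_⟩
    exact_mod_cast hm
  set R := Finset.univ \ B with hR
  have hsplit : ∀ F : IrrCharacter G → ℤ, ∑ ψ ∈ R, F ψ = ∑ ψ, F ψ -
      (F (H12.oneIrr G) + F D.f + F D.g + ∑ ψ ∈ D.Y, F ψ) := by
    intro F
    rw [← hBsum, hR, eq_sub_iff_add_eq, Finset.sum_sdiff (Finset.subset_univ B)]
  have hdd : ∑ ψ : IrrCharacter G, (d ψ : ℤ) ^ 2 = 5616 := by
    have := H12.sum_degree_sq_nat (G := G)
    simp only [hd, h] at this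
    exact_mod_cast this
  have hdv : ∑ ψ : IrrCharacter G, (d ψ : ℤ) * v ψ = 0 := by
    have := H12.regular_eq_sum t
    rw [if_neg ht1] at this
    simp only [hv, H12.irr_apply_one, hd] at this
    exact_mod_cast this
  have hvv : ∑ ψ : IrrCharacter G, v ψ ^ 2 = 48 := by
    have := H12.column_orthogonality t t
    rw [if_pos (IsConj.refl t), card_centralizer_involution h ht] at this
    simp only [hv, map_intCast, ← pow_two] at this
    exact_mod_cast this
  have key : ∀ ψ ∈ R, 104 * (d ψ : ℤ) ≤ 5 * (d ψ : ℤ) ^ 2 + 26 * ((d ψ : ℤ) * v ψ) + 169 * v ψ ^ 2 := by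
    intro ψ hψ
    obtain ⟨a, ha⟩ := h13 ψ (Finset.mem_sdiff.1 hψ).2
    have hpos : 0 < (d ψ : ℤ) := by exact_mod_cast (hd ψ ▸ H12.irr_degree_pos ψ)
    have h4 := hv4 ψ
    rw [hd, ha] at h4
    rw [ha] at hpos ⊢
    suffices 8 * a ≤ 5 * a ^ 2 + 2 * a * v ψ + v ψ ^ 2 by nlinarith
    rcases (show a = 1 ∨ 2 ≤ a by omega) with rfl | ha2
    · rcases (show v ψ ≤ -3 ∨ 1 ≤ v ψ by omega) with hle | hle <;> nlinarith
    · nlinarith [sq_nonneg (v ψ + a), mul_nonneg (show (0 : ℤ) ≤ a by omega) (show (0 : ℤ) ≤ a - 2 by omega)]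
  have e1 : ∑ ψ ∈ D.Y, (d ψ : ℤ) = 64 := by
    rw [Finset.sum_congr rfl (fun ψ hψ => by rw [hdY ψ hψ] : ∀ ψ ∈ D.Y, (d ψ : ℤ) = ((16 : ℕ) : ℤ)),
      Finset.sum_const, D.card_Y]
    norm_num
  have e2 : ∑ ψ ∈ D.Y, (d ψ : ℤ) ^ 2 = 1024 := by
    rw [Finset.sum_congr rfl (fun ψ hψ => by rw [hdY ψ hψ] :
      ∀ ψ ∈ D.Y, (d ψ : ℤ) ^ 2 = ((16 : ℕ) : ℤ) ^ 2), Finset.sum_const, D.card_Y]
    norm_num
  have e3 : ∑ ψ ∈ D.Y, (d ψ : ℤ) * v ψ = 0 :=
    Finset.sum_eq_zero fun ψ hψ => by rw [hvY ψ hψ, mul_zero]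
  have e4 : ∑ ψ ∈ D.Y, v ψ ^ 2 = 0 := Finset.sum_eq_zero fun ψ hψ => by rw [hvY ψ hψ]; norm_num
  have hle : ∑ ψ : IrrCharacter G, (d ψ : ℤ) ≤ 286 := by
    have hs := Finset.sum_le_sum key
    simp only [Finset.sum_add_distrib, ← Finset.mul_sum, hsplit, hdd, hdv, hvv] at hs
    simp only [hd1, hdf, hdg, hv1, hvf, hvg] at hs
    rw [e1, e2, e3, e4] at hs
    push_cast at hs
    linarith
  -- the Frobenius-Schur count
  have hFS := H13.Twist.card_sq_eq_one_sum (G := G)
  have hnorm : ∀ ψ : IrrCharacter G, ‖H17.fsInd (ψ : G → ℂ) * (ψ : G → ℂ) 1‖ ≤ (d ψ : ℝ) := by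
    intro ψ
    rw [norm_mul, H12.irr_apply_one, hd, Complex.norm_natCast]
    have : ‖H17.fsInd (ψ : G → ℂ)‖ ≤ 1 := by
      rcases H25.fsInd_irr_cases ψ with h0 | ⟨h0 | h0, -⟩ <;> rw [h0] <;> simp
    exact mul_le_of_le_one_left (Nat.cast_nonneg _) this
  have h1 : ((Finset.univ.filter fun g : G => g * g = 1).card : ℝ) ≤ 286 := by
    have := norm_sum_le (Finset.univ : Finset (IrrCharacter G))
      (fun ψ => H17.fsInd (ψ : G → ℂ) * (ψ : G → ℂ) 1)
    rw [hFS, Complex.norm_natCast] at this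
    refine this.trans ((Finset.sum_le_sum fun ψ _ => hnorm ψ).trans ?_)
    exact_mod_cast hle
  rw [Nat.card_eq_fintype_card, Fintype.card_subtype]
  exact_mod_cast h1

end Unique5616
end SmallOrder
end H4
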