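/-
No involution centraliser of a simple group of order 5616 has an elementary abelian normal subgroup
of order eight with a transposition acting on it.
-/
import Cfsg.Agent.H4.SmallOrder.Unique.Involution5616
import Cfsg.Agent.H5.Burnside
import Cfsg.Agent.H70.Order5040Tools

set_option autoImplicit false
set_option linter.unusedSectionVars false
set_option linter.style.haveILetI false

open Subgroup

namespace H4
namespace SmallOrder
namespace Unique5616

universe u

variable {G : Type u} [Group G] [Finite G] [IsSimpleGroup G]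

theorem false_of_elementary (hG : Nat.card G = 5616) (E : Subgroup G) (hE : Nat.card E = 8)
    (hsq : ∀ q ∈ E, q * q = 1) {r t a b : G} (hrN : ∀ q ∈ E, r * q * r⁻¹ ∈ E)
    (hrE : r ∉ E) (hr2 : r * r ∈ E) (ht : t ∈ E) (ha : a ∈ E) (hb : b ∈ E)
    (ht1 : t ≠ 1) (ha1 : a ≠ 1) (hta : t ≠ a) (hrt : r * t * r⁻¹ = t) (hra : r * a * r⁻¹ = a)
    (hrb : r * b * r⁻¹ = a * b) (hE2 : ∀ q ∈ E, r * q * r⁻¹ = q ∨ r * q * r⁻¹ = a * q) : False := by
  classical
  haveI : Fact (Nat.Prime 2) := ⟨Nat.prime_two⟩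
  have hcomm : ∀ p ∈ E, ∀ q ∈ E, p * q = q * p := by
    intro p hp q hq
    have h1 := hsq _ (mul_mem hp hq)
    have hp' : p⁻¹ = p := inv_eq_of_mul_eq_one_right (hsq p hp)
    have hq' : q⁻¹ = q := inv_eq_of_mul_eq_one_right (hsq q hq)
    calc p * q = (p * q)⁻¹ := (inv_eq_of_mul_eq_one_right h1).symm
      _ = q * p := by rw [mul_inv_rev, hp', hq']
  have hrE' : ∀ q ∈ E, r⁻¹ * q * r ∈ E := by
    intro q hq
    have h2 := hcomm _ hr2 q hq
    have e : r⁻¹ * q * r = r * q * r⁻¹ := by
      calc r⁻¹ * q * r = r⁻¹ * (q * (r * r)) * r⁻¹ := by group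
        _ = r⁻¹ * (r * r * q) * r⁻¹ := by rw [h2]
        _ = r * q * r⁻¹ := by group
    rw [e]
    exact hrN q hq
  obtain ⟨T, hET, hrT, hTc, hTmem⟩ := H70.exists_two_coset_subgroup E r hrN hrE' hr2 hrE
  rw [hE] at hTc
  norm_num at hTc
  have hT2 : IsPGroup 2 T := IsPGroup.of_card (n := 4) (by rw [hTc]; norm_num)
  obtain ⟨S, hS⟩ := hT2.exists_le_sylow
  have hSc : Nat.card (S : Subgroup G) = 16 := by
    rw [H62.card_sylow_coe (a := 4) (m := 351) (hG.trans (by norm_num)) (by norm_num) S]; norm_num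
  have hTS : T = (S : Subgroup G) := eq_of_le_of_card_ge hS (by rw [hTc, hSc])
  -- centralised by `T`
  have hcentral : ∀ z ∈ E, r * z * r⁻¹ = z → z ∈ centralizer ((S : Subgroup G) : Set G) := by
    intro z hz hrz
    rw [← hTS, mem_centralizer_iff]
    intro g hg
    rcases hTmem g hg with hk | ⟨k, hk, rfl⟩
    · exact hcomm g hk z hz
    · calc k * r * z = k * (r * z * r⁻¹) * r := by group
        _ = z * (k * r) := by rw [hrz, hcomm k hk z hz, mul_assoc]
  have hct : t ∈ centralizer ((S : Subgroup G) : Set G) := hcentral t ht hrt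
  have hca : a ∈ centralizer ((S : Subgroup G) : Set G) := hcentral a ha hra
  have hcta : t * a ∈ centralizer ((S : Subgroup G) : Set G) := mul_mem hct hca
  -- commutators in `T` lie in `{1, a}`
  have haa := hsq a ha
  have hflip : ∀ k ∈ E, ∃ s : G, (s = 1 ∨ s = a) ∧ r * k = s * k * r := by
    intro k hk
    rcases hE2 k hk with e | e
    · exact ⟨1, Or.inl rfl, by rw [one_mul]; exact mul_inv_eq_iff_eq_mul.1 e⟩
    · exact ⟨a, Or.inr rfl, mul_inv_eq_iff_eq_mul.1 e⟩
  have hacomm : ∀ g ∈ T, a * g = g * a := fun g hg => (hca g (show g ∈ (S : Subgroup G) from hTS ▸ hg)).symm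
  have hswap : ∀ g ∈ T, ∀ h ∈ T, ∃ s : G, (s = 1 ∨ s = a) ∧ g * h = s * (h * g) := by
    have hEr : ∀ k ∈ E, ∀ l ∈ E, ∃ s : G, (s = 1 ∨ s = a) ∧ (k * r) * l = s * (l * (k * r)) := by
      intro k hk l hl
      obtain ⟨s, hs, e⟩ := hflip l hl
      have hsE : s ∈ E := by rcases hs with rfl | rfl <;> [exact one_mem E; exact ha]
      refine ⟨s, hs, ?_⟩
      calc k * r * l = k * (r * l) := by group
        _ = (k * s) * l * r := by rw [e]; group
        _ = (s * k) * l * r := by rw [hcomm k hk s hsE]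
        _ = s * (k * l) * r := by group
        _ = s * (l * k) * r := by rw [hcomm k hk l hl]
        _ = s * (l * (k * r)) := by group
    intro g hg h hh
    rcases hTmem g hg with hk | ⟨k, hk, rfl⟩ <;> rcases hTmem h hh with hl | ⟨l, hl, rfl⟩
    · exact ⟨1, Or.inl rfl, by rw [one_mul, hcomm g hk h hl]⟩
    · obtain ⟨s, hs, e⟩ := hEr l hl g hk
      refine ⟨s, hs, ?_⟩
      have hs' : s * s = 1 := by rcases hs with rfl | rfl <;> simp [haa]
      rw [e, ← mul_assoc s s, hs', one_mul]
    · exact hEr k hk h hl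
    · obtain ⟨s, hs, e⟩ := hflip l hl
      obtain ⟨s', hs', e'⟩ := hflip k hk
      have hsE : ∀ s : G, s = 1 ∨ s = a → s ∈ E := by
        rintro s (rfl | rfl) <;> [exact one_mem E; exact ha]
      have hsT : ∀ s : G, s = 1 ∨ s = a → ∀ g ∈ T, g * s = s * g := by
        rintro s (rfl | rfl) g hg <;> [simp; exact (hacomm g hg).symm]
      have hs's : s' * s' = 1 := hsq _ (hsE s' hs')
      refine ⟨s * s', ?_, ?_⟩
      · rcases hs with rfl | rfl <;> rcases hs' with rfl | rfl <;> simp [haa]
      · calc k * r * (l * r) = k * (r * l) * r := by group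
          _ = (k * s) * l * (r * r) := by rw [e]; group
          _ = s * (k * l) * (r * r) := by rw [hcomm k hk s (hsE s hs)]; group
          _ = s * (l * k) * (r * r) := by rw [hcomm k hk l hl]
          _ = s * (s' * s') * (l * k) * (r * r) := by rw [hs's, mul_one]
          _ = s * s' * (l * (s' * k * r) * r) := by
            rw [show s * (s' * s') * (l * k) * (r * r) = s * s' * ((s' * l) * k * r * r) by group,
              hcomm s' (hsE s' hs') l hl]
            group
          _ = s * s' * (l * (r * k) * r) := by rw [e']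
          _ = s * s' * (l * r * (k * r)) := by group
  have hab : r * b * r⁻¹ * b⁻¹ = a := by rw [hrb, mul_inv_cancel_right]
  have hnorm : ∀ n ∈ normalizer ((S : Subgroup G) : Set G), n * a * n⁻¹ = a := by
    intro n hn
    rw [← hTS] at hn
    obtain ⟨s, hs, e⟩ := hswap _ ((mem_normalizer_iff.1 hn r).1 hrT) _ ((mem_normalizer_iff.1 hn b).1 (hET hb))
    have hsv : n * a * n⁻¹ = s := by
      have h1 : n * r * n⁻¹ * (n * b * n⁻¹) * (n * r * n⁻¹)⁻¹ * (n * b * n⁻¹)⁻¹ = s := by rw [e]; group
      rw [← h1, ← hab]; group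
    rcases hs with rfl | rfl
    · exact absurd (conj_eq_one_iff.1 hsv) ha1
    · exact hsv
  -- fusion
  have hfix : ∀ z, z ∈ centralizer ((S : Subgroup G) : Set G) → z ≠ a → ¬ IsConj a z := by
    intro z hz hza hconj
    obtain ⟨g, hg⟩ := isConj_iff.1 hconj
    obtain ⟨n, hn, hnz⟩ := H5.burnside_fusion_elem S hca hz hg
    exact hza (hnz.symm.trans (hnorm n hn))
  have hta1 : t * a ≠ 1 := fun h => hta (eq_inv_of_mul_eq_one_left h ▸ inv_eq_of_mul_eq_one_right haa)
  have n1 : ¬ IsConj a t := hfix t hct hta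
  have n2 : ¬ IsConj a (t * a) := hfix _ hcta (fun h => ht1 (mul_eq_right.1 h))
  have n3 : ¬ IsConj t (t * a) := by
    intro hconj
    obtain ⟨g, hg⟩ := isConj_iff.1 hconj
    obtain ⟨n, hn, hnz⟩ := H5.burnside_fusion_elem S hct hcta hg
    have hna := hnorm n hn
    obtain ⟨e, k, hk2, hk⟩ := Nat.exists_eq_pow_mul_and_not_dvd (orderOf_pos n).ne' 2 (by norm_num)
    have hiter : ∀ j : ℕ, n ^ j * t * (n ^ j)⁻¹ = if j % 2 = 0 then t else t * a := by
      intro j
      induction j with
      | zero => simp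
      | succ j ih =>
        rw [pow_succ', mul_inv_rev,
          show n * n ^ j * t * ((n ^ j)⁻¹ * n⁻¹) = n * (n ^ j * t * (n ^ j)⁻¹) * n⁻¹ by group, ih]
        rcases Nat.mod_two_eq_zero_or_one j with hj | hj
        · rw [if_pos hj, if_neg (by omega), hnz]
        · rw [if_neg (by omega), if_pos (by omega),
            show n * (t * a) * n⁻¹ = (n * t * n⁻¹) * (n * a * n⁻¹) by group, hnz, hna, mul_assoc, haa,
            mul_one]
    set m := n ^ k with hm
    have hmo : orderOf m = 2 ^ e := by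
      rw [hm, orderOf_pow, hk, Nat.gcd_eq_right (dvd_mul_left k _),
        Nat.mul_div_cancel _ (Nat.pos_of_ne_zero fun h => hk2 (by rw [h]; exact dvd_zero 2))]
    have hmS : m ∈ (S : Subgroup G) := by
      have hsup : IsPGroup 2 ((zpowers m) ⊔ (S : Subgroup G) : Subgroup G) :=
        (IsPGroup.of_card (n := e) (by rw [Nat.card_zpowers, hmo]) : IsPGroup 2 (zpowers m)).to_sup_of_normal_right'
          S.isPGroup' (zpowers_le.2 (pow_mem hn k))
      exact (le_sup_left.trans (S.is_maximal' hsup le_sup_right).le) (mem_zpowers m)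
    have h1 := hiter k
    rw [if_neg (by omega), ← hm, hct m hmS, mul_inv_cancel_right] at h1
    exact ha1 (mul_eq_left.1 h1.symm)
  -- three classes of involutions
  haveI := Fintype.ofFinite G
  have hord : ∀ z ∈ E, z ≠ 1 → orderOf z = 2 := fun z hz hz1 =>
    orderOf_eq_prime (by rw [pow_two, hsq z hz]) hz1
  have hclass : ∀ z ∈ E, z ≠ 1 → Nat.card {g : G // IsConj z g} = 117 := by
    intro z hz hz1
    have := H65.card_class_mul (G := G) z
    rw [card_centralizer_involution hG (hord z hz hz1), hG] at this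
    omega
  let f : Option ({g : G // IsConj t g} ⊕ ({g : G // IsConj a g} ⊕ {g : G // IsConj (t * a) g})) →
      {s : G // s * s = 1} := fun o => o.elim ⟨1, mul_one 1⟩ (Sum.elim
    (fun g => ⟨g.1, sq_of_conj g.2 (hsq t ht)⟩) (Sum.elim
      (fun g => ⟨g.1, sq_of_conj g.2 (hsq a ha)⟩)
      (fun g => ⟨g.1, sq_of_conj g.2 (hsq _ (mul_mem ht ha))⟩)))
  have hne : ∀ {z g : G}, z ≠ 1 → IsConj z g → g ≠ 1 := fun hz hg h1 => hz (isConj_one_left.1 (h1 ▸ hg))
  have hf : Function.Injective f := by
    rintro (_ | g | g | g) (_ | g' | g' | g') h <;>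
      have hv := congrArg Subtype.val h <;>
      simp only [f, Option.elim, Sum.elim_inl, Sum.elim_inr] at hv
    · rfl
    · exact absurd hv.symm (hne ht1 g'.2)
    · exact absurd hv.symm (hne ha1 g'.2)
    · exact absurd hv.symm (hne hta1 g'.2)
    · exact absurd hv (hne ht1 g.2)
    · exact congrArg (fun z => some (Sum.inl z)) (Subtype.ext hv)
    · exact absurd ((hv ▸ g.2).trans g'.2.symm).symm n1
    · exact absurd ((hv ▸ g.2).trans g'.2.symm) n3
    · exact absurd hv (hne ha1 g.2)
    · exact absurd ((hv ▸ g.2).trans g'.2.symm) n1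
    · exact congrArg (fun z => some (Sum.inr (Sum.inl z))) (Subtype.ext hv)
    · exact absurd ((hv ▸ g.2).trans g'.2.symm) n2
    · exact absurd hv (hne hta1 g.2)
    · exact absurd ((hv ▸ g.2).trans g'.2.symm).symm n3
    · exact absurd ((hv ▸ g.2).trans g'.2.symm).symm n2
    · exact congrArg (fun z => some (Sum.inr (Sum.inr z))) (Subtype.ext hv)
  have := (Nat.card_le_card_of_injective f hf).trans (card_sq_eq_one_le hG)
  rw [Finite.card_option, Nat.card_sum, Nat.card_sum, hclass t ht ht1, hclass a ha ha1,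
    hclass _ (mul_mem ht ha) hta1] at this
  omega
where
  sq_of_conj {z g : G} (h : IsConj z g) (hz : z * z = 1) : g * g = 1 := by
    obtain ⟨c, rfl⟩ := isConj_iff.1 h
    exact H62.sq_conj_eq_one hz c

end Unique5616
end SmallOrder
end H4
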