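/-
The centralisers of the elements of order three of a simple group of order 5616.
-/
import Cfsg.Agent.H4.SmallOrder.Unique.Involution5616

set_option autoImplicit false
set_option linter.unusedSectionVars false
set_option linter.style.haveILetI false

open Cfsg Subgroup
open scoped ComplexConjugate

namespace H4
namespace SmallOrder
namespace Unique5616

universe u

variable {G : Type u} [Group G] [Fintype G] [IsSimpleGroup G]

theorem int_case {m n N s : ℤ} (hs : s = m ^ 2 - m * n + n ^ 2) (hN : N = 1 - (2 * m - n) + s)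
    (h1 : 4 * s + 3 * N ≤ 48) (h16 : (16 : ℤ) ∣ N) (h3 : (3 : ℤ) ∣ 12 + (2 * m - n)) : False := by
  have hs0 : 0 ≤ s := by rw [hs]; nlinarith [sq_nonneg (2 * m - n), sq_nonneg n]
  have hN4 : 4 * N = (2 - (2 * m - n)) ^ 2 + 3 * n ^ 2 := by rw [hN, hs]; ring
  have hN0 : 0 ≤ N := by nlinarith [sq_nonneg (2 - (2 * m - n)), sq_nonneg n]
  have hN16 : N ≤ 16 := by omega
  rcases (show N = 0 ∨ N = 16 by omega) with h0 | h0
  · have hq : (2 - (2 * m - n)) ^ 2 = 0 := by nlinarith [sq_nonneg (2 - (2 * m - n)), sq_nonneg n]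
    have : 2 * m - n = 2 := by
      have := pow_eq_zero_iff (two_ne_zero) |>.1 hq
      omega
    omega
  · have hs' : s = 0 := by omega
    have hq : (2 * m - n) ^ 2 = 0 := by nlinarith [sq_nonneg (2 * m - n), sq_nonneg n]
    have := pow_eq_zero_iff (two_ne_zero) |>.1 hq
    rw [hN, hs', this] at h0
    norm_num at h0

/-- The centraliser of an element of order three has order not divisible by twelve. -/
theorem not_twelve_dvd (h : Nat.card G = 5616) {y : G} (hy : orderOf y = 3) :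
    ¬ 12 ∣ Nat.card (centralizer ({y} : Set G)) := by
  classical
  intro h12
  haveI : Fact (Nat.Prime 13) := ⟨by norm_num⟩
  obtain ⟨P, x, hx, hx1, ⟨D⟩⟩ := exists_x h
  have hy1 : y ≠ 1 := fun h1 => by rw [h1, orderOf_one] at hy; omega
  have hy13 : ¬ 13 ∣ orderOf y := by rw [hy]; norm_num
  have hf : (D.f : G → ℂ) y = 0 := vanish_full h (p := 3) (d := 27) (a := 3) Nat.prime_three
    (by norm_num) ⟨208, by norm_num, by norm_num⟩ D.f D.deg_f hy
  -- the value of `g` lies in the Eisenstein integers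
  set ω := Complex.exp (2 * Real.pi * Complex.I / 3) with hω
  have hprim : IsPrimitiveRoot ω 3 := by
    rw [hω]
    have := Complex.isPrimitiveRoot_exp 3 (by norm_num)
    simpa using this
  have hω3 : ω ^ 3 = 1 := hprim.pow_eq_one
  have hω2 : ω ^ 2 = -1 - ω := by
    have := hprim.geom_sum_eq_zero (by norm_num)
    simp only [Finset.sum_range_succ, Finset.sum_range_zero, zero_add, pow_zero, pow_one] at this
    linear_combination this
  have hωc : conj ω = ω ^ 2 := by
    rw [← Complex.inv_eq_conj (Complex.norm_eq_one_of_pow_eq_one hω3 (by norm_num))]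
    exact inv_eq_of_mul_eq_one_right (by rw [← pow_succ']; exact hω3)
  obtain ⟨m, n, hmn⟩ : ∃ m n : ℤ, (D.g : G → ℂ) y = m + n * ω := by
    obtain ⟨k, ρ, hirr, hval⟩ := D.g.2
    obtain ⟨μ, h1, h2, -⟩ := H12.exists_char_eigenvalues ρ y
    have h3 : (D.g : G → ℂ) y = ∑ i, μ i := by rw [← hval]; simpa using h2 1
    rw [h3]
    refine Finset.sum_induction μ (fun z => ∃ m n : ℤ, z = m + n * ω) ?_ ⟨0, 0, by simp⟩ fun i _ => ?_
    · rintro a b ⟨m, n, rfl⟩ ⟨m', n', rfl⟩
      exact ⟨m + m', n + n', by push_cast; ring⟩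
    · obtain ⟨j, hj, hjμ⟩ := hprim.eq_pow_of_pow_eq_one (by rw [← hy]; exact h1 i)
      rw [← hjμ]
      interval_cases j
      · exact ⟨1, 0, by simp⟩
      · exact ⟨0, 1, by simp⟩
      · exact ⟨-1, -1, by rw [hω2]; push_cast; ring⟩
  have hθ : (D.θ : G → ℂ) y = 1 - (m + n * ω) := by rw [D.rel y hy13, hf, hmn]; ring
  have hconj : conj ((m : ℂ) + n * ω) = m + n * (-1 - ω) := by
    rw [map_add, map_mul, map_intCast, map_intCast, hωc, hω2]
  set s : ℤ := m ^ 2 - m * n + n ^ 2 with hs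
  set N : ℤ := 1 - (2 * m - n) + s with hN
  have hgs : (D.g : G → ℂ) y * conj ((D.g : G → ℂ) y) = (s : ℂ) := by
    rw [hmn, hconj, hs]; push_cast; linear_combination -(n : ℂ) ^ 2 * hω2
  have hθN : (D.θ : G → ℂ) y * conj ((D.θ : G → ℂ) y) = (N : ℂ) := by
    rw [hθ, map_sub, map_one, hconj, hN, hs]; push_cast; linear_combination -(n : ℂ) ^ 2 * hω2
  -- a class algebra constant is not negative
  have hcv := D.class_value h (z := y) (w := y) hy13 hy13
  rw [hf, hgs, hθN, map_zero, mul_zero, zero_div, add_zero] at hcv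
  set T := Nat.card {a : G // IsConj (x * (a * y * a⁻¹)) y}
  set c := Nat.card (centralizer ({y} : Set G)) with hc
  have h1 : 4 * s + 3 * N ≤ 48 := by
    have h2 : ((((T * c : ℕ) : ℤ)) : ℂ) = ((117 * (48 - 4 * s - 3 * N) : ℤ) : ℂ) := by
      push_cast; linear_combination hcv
    have h3 : ((T * c : ℕ) : ℤ) = 117 * (48 - 4 * s - 3 * N) := Int.cast_injective h2
    have := Int.natCast_nonneg (T * c)
    omega
  -- the central character of `θ` is integral
  set K := (centralizer ({y} : Set G)).index with hK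
  have hdiv : (256 : ℤ) ∣ (K : ℤ) ^ 2 * N := by
    have hz : IsIntegral ℤ ((K : ℂ) * (D.θ : G → ℂ) y / 16) := by
      obtain ⟨k, ρ, hρ, hval⟩ := D.θ.2
      haveI := hρ
      have hi := H12.isIntegral_classSize_mul_char_div ρ y
      have hdeg : Module.finrank ℂ (Fin k → ℂ) = 16 := by
        rw [← H12.degree_character ρ, hval, D.deg_Y _ D.mem_Y]
      rw [hdeg, congrFun hval y, ← hK] at hi
      exact_mod_cast hi
    have hzz := hz.mul (hz.map (starRingEnd ℂ : ℂ →+* ℂ).toIntAlgHom)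
    simp only [RingHom.toIntAlgHom_apply, map_mul, map_div₀, map_natCast,
      map_ofNat] at hzz
    have hq : (K : ℂ) * (D.θ : G → ℂ) y / 16 * ((K : ℂ) * conj ((D.θ : G → ℂ) y) / 16) =
        (((((K : ℤ) ^ 2 * N : ℤ) : ℚ) / 256 : ℚ) : ℂ) := by
      push_cast
      rw [← hθN]
      ring
    rw [hq] at hzz
    obtain ⟨z, hz'⟩ := H12.exists_int_of_isIntegral_rat hzz
    refine ⟨z, ?_⟩
    have h4 : (z : ℚ) * 256 = (((K : ℤ) ^ 2 * N : ℤ) : ℚ) := by rw [hz', div_mul_cancel₀]; norm_num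
    have h5 : z * 256 = (K : ℤ) ^ 2 * N := by exact_mod_cast h4
    linarith
  have hd : c ∣ 432 := centralizer_dvd h hy1 hy13
  have hidx := (centralizer ({y} : Set G)).card_mul_index
  rw [← hc, h, ← hK] at hidx
  have h16 : (16 : ℤ) ∣ N := by
    have h4 : ¬ 8 ∣ K := by
      intro h8
      obtain ⟨i, hi⟩ := h8
      obtain ⟨j, hj⟩ := h12
      rw [hi, hj] at hidx
      have : 12 * 8 * (j * i) = 5616 := by rw [← hidx]; ring
      omega
    by_contra hno
    obtain ⟨a, ha⟩ : ∃ a, ∃ b, a ≤ 2 ∧ K = 2 ^ a * b ∧ b % 2 = 1 := by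
      by_cases h2 : 2 ∣ K
      · by_cases h4' : 4 ∣ K
        · exact ⟨2, K / 4, le_rfl, by omega, by omega⟩
        · exact ⟨1, K / 2, by norm_num, by omega, by omega⟩
      · exact ⟨0, K, by norm_num, by simp, by omega⟩
    obtain ⟨b, ha2, hKb, hb⟩ := ha
    apply hno
    have hcop : IsCoprime (16 : ℤ) ((b : ℤ) ^ 2) := by
      apply IsCoprime.pow_right
      rw [show (16 : ℤ) = 2 ^ 4 by norm_num]
      apply IsCoprime.pow_left
      exact (Int.isCoprime_iff_gcd_eq_one).2 (by
        rw [show (2 : ℤ) = ((2 : ℕ) : ℤ) from rfl, Int.gcd_natCast_natCast]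
        exact (Nat.coprime_two_left.2 (Nat.odd_iff.2 hb)))
    refine hcop.dvd_of_dvd_mul_left ?_
    rw [hKb] at hdiv
    push_cast at hdiv
    rw [mul_pow, ← pow_mul, mul_assoc] at hdiv
    have h256 : (256 : ℤ) = 2 ^ (a * 2) * 2 ^ (8 - a * 2) := by rw [← pow_add]; rw [Nat.add_sub_cancel' (by omega)]; norm_num
    rw [h256] at hdiv
    have h8 := (mul_dvd_mul_iff_left (pow_ne_zero _ (by norm_num : (2 : ℤ) ≠ 0))).1 hdiv
    exact ((show (16 : ℤ) ∣ 2 ^ (8 - a * 2) by
      rw [show (16 : ℤ) = 2 ^ 4 by norm_num]; exact pow_dvd_pow _ (by omega))).trans h8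
  -- the multiplicity of the trivial character on `⟨y⟩`
  have h3 : (3 : ℤ) ∣ 12 + (2 * m - n) := by
    obtain ⟨k, hk⟩ := H12.IsCharacter.classInner_nat
      (H12.IsCharacter.res (H12.isCharacter_irr D.g) (zpowers y))
      (H12.isCharacter_irr (H12.oneIrr (zpowers y)))
    rw [H12.classInner_def, Nat.card_zpowers, hy] at hk
    simp only [H12.oneIrr_apply, map_one, mul_one] at hk
    rw [← (finEquivZPowers (isOfFinOrder_of_finite y)).sum_comp] at hk
    simp only [finEquivZPowers_apply] at hk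
    rw [← (finCongr hy.symm).sum_comp] at hk
    simp only [Fin.sum_univ_three, finCongr_apply, Fin.val_cast, Fin.val_zero, Fin.val_one, pow_zero,
      pow_one, show ((2 : Fin 3) : ℕ) = 2 from rfl] at hk
    have hy2 : y ^ 2 = y⁻¹ := eq_inv_of_mul_eq_one_left (by rw [← pow_succ, show (2 + 1 : ℕ) = 3 from rfl, ← hy, pow_orderOf_eq_one])
    have hinv : (D.g : G → ℂ) y⁻¹ = conj ((D.g : G → ℂ) y) := by
      rw [H20.conj_irr_eq]
    rw [hy2, hinv, hmn, hconj, H12.irr_apply_one, D.deg_g] at hk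
    refine ⟨(k : ℤ), ?_⟩
    have : (((12 + (2 * m - n)) : ℤ) : ℂ) = (((3 : ℤ) * k : ℤ) : ℂ) := by
      push_cast at hk ⊢
      linear_combination 3 * hk
    exact_mod_cast this
  exact int_case hs hN h1 h16 h3

end Unique5616
end SmallOrder
end H4
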