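/-
The structure of an involution centraliser in a simple group of order 5616.
-/
import Cfsg.Agent.H4.SmallOrder.Unique.Three5616
import Cfsg.Agent.H4.SmallOrder.Unique.Elementary5616
import Cfsg.Agent.H1.Cores
import Cfsg.Agent.H70.OctahedralCover
import Cfsg.Agent.H14.BrauerSuzukiTheorem
import Cfsg.Agent.H33.TwoPrime

set_option autoImplicit false
set_option linter.unusedSectionVars false
set_option linter.style.haveILetI false

open Subgroup

namespace H4
namespace SmallOrder
namespace Unique5616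

universe u

variable {G : Type u} [Group G] [Finite G] [IsSimpleGroup G]

theorem mem_pair {C : Type*} [Group C] [Finite C] {I : Subgroup C} (hI : Nat.card I ∣ 2) {t q : C}
    (ht : t ∈ I) (ht1 : t ≠ 1) (hq : q ∈ I) : q = 1 ∨ q = t := by
  by_contra hne
  push Not at hne
  let f : Fin 3 → I := ![1, ⟨t, ht⟩, ⟨q, hq⟩]
  have hf : Function.Injective f := by
    intro i j hij
    have hv := congrArg Subtype.val hij
    fin_cases i <;> fin_cases j <;> simp [f] at hv <;> first | rfl | (exfalso; first
      | exact ht1 hv | exact ht1 hv.symm | exact hne.1 hv | exact hne.1 hv.symm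
      | exact hne.2 hv | exact hne.2 hv.symm)
  have := Nat.card_le_card_of_injective f hf
  rw [Nat.card_fin] at this
  have := Nat.le_of_dvd (by norm_num) hI
  omega

theorem centralizer_iso (hG : Nat.card G = 5616) {t : G} (ht : orderOf t = 2) :
    Nonempty (↥(centralizer ({t} : Set G)) ≃* GL (Fin 2) (ZMod 3)) := by
  classical
  haveI := Fintype.ofFinite G
  haveI h2F : Fact (Nat.Prime 2) := ⟨Nat.prime_two⟩
  haveI h3F : Fact (Nat.Prime 3) := ⟨Nat.prime_three⟩
  set C := centralizer ({t} : Set G) with hCdef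
  have hC : Nat.card C = 48 := card_centralizer_involution hG ht
  have htC : t ∈ C := mem_centralizer_singleton_iff.2 rfl
  set t' : C := ⟨t, htC⟩ with ht'def
  have ht' : orderOf t' = 2 := by rw [← ht, ← Subgroup.orderOf_coe]
  have htZ : ∀ c : C, Commute t' c := fun c =>
    Subtype.ext (mem_centralizer_singleton_iff.1 c.2).symm
  -- centralisers in `C` of elements of order three
  have h12 : ∀ y : C, orderOf y = 3 → ¬ 12 ∣ Nat.card (centralizer ({y} : Set C)) := by
    intro y hy hd
    refine not_twelve_dvd hG (y := (y : G)) (by rw [Subgroup.orderOf_coe, hy]) (hd.trans ?_)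
    rw [← card_map_of_injective C.subtype_injective]
    refine card_dvd_of_le ?_
    rintro _ ⟨c, hc, rfl⟩
    exact mem_centralizer_singleton_iff.2 (congrArg Subtype.val (mem_centralizer_singleton_iff.1 hc))
  obtain ⟨R⟩ := (inferInstance : Nonempty (Sylow 3 C))
  have hRc : ∀ R : Sylow 3 C, Nat.card (R : Subgroup C) = 3 := fun R => by
    rw [H62.card_sylow_coe (a := 1) (m := 16) (hC.trans (by norm_num)) (by norm_num) R, pow_one]
  obtain ⟨y, hyR, hy1, hyo⟩ := H65.exists_sylow_generator R (hRc R)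
  have hRy : (R : Subgroup C) = zpowers y := (H20.PrimeSylow.zpowers_eq (hRc R) hyR hy1).symm
  set N := normalizer ((R : Subgroup C) : Set C) with hN
  set CR := centralizer ((R : Subgroup C) : Set C) with hCR
  have hCRN : CR ≤ N := centralizer_le_normalizer _
  have hCRy : CR = centralizer ({y} : Set C) := by
    rw [hCR, hRy, centralizer_eq_iInf]
    ext c
    simp only [mem_iInf, mem_centralizer_singleton_iff]
    constructor
    · intro hc; exact hc y (mem_zpowers y)
    · intro hc z hz
      obtain ⟨j, rfl⟩ := mem_zpowers_iff.1 hz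
      exact ((Commute.symm hc : Commute y c).zpow_left j).symm.eq
  have h6 : 6 ∣ Nat.card CR := by
    have h2 : 2 ∣ Nat.card CR := ht' ▸ orderOf_dvd_natCard _
      (show t' ∈ CR from mem_centralizer_iff.2 fun z _ => (htZ z).eq.symm)
    have h3 : 3 ∣ Nat.card CR := hyo ▸ orderOf_dvd_natCard _
      (show y ∈ CR by rw [hCRy]; exact mem_centralizer_singleton_iff.2 rfl)
    exact Nat.Coprime.mul_dvd_of_dvd_of_dvd (by norm_num : Nat.Coprime 2 3) h2 h3
  have hrel := H62.relIndex_centralizer_dvd_prime (p := 3) (R : Subgroup C) (hRc R)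
  have hrelm : Nat.card CR * CR.relIndex N = Nat.card N := by
    rw [Subgroup.relIndex, ← Nat.card_congr (Subgroup.subgroupOfEquivOfLe hCRN).toEquiv]
    exact Subgroup.card_mul_index _
  have hNm := H62.card_normalizer_mul R
  rw [hC, ← hN] at hNm
  have hk := H62.card_sylow_dvd (p := 3) (G := C) (a := 1) (m := 16) (hC.trans (by norm_num)) (by norm_num)
  have hk1 := H62.card_sylow_mod (p := 3) (G := C)
  have hno12 : ¬ 12 ∣ Nat.card CR := hCRy ▸ h12 y hyo
  have hfacts : Nat.card (Sylow 3 C) = 4 ∧ Nat.card N = 12 ∧ Nat.card CR = 6 := by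
    have hr2 : CR.relIndex N = 1 ∨ CR.relIndex N = 2 :=
      (Nat.dvd_prime Nat.prime_two).1 (show _ ∣ 2 from hrel)
    have hk16 : Nat.card (Sylow 3 C) ∈ ({1, 4, 16} : Finset ℕ) := by
      have key : ∀ k ∈ Nat.divisors 16, k % 3 = 1 → k ∈ ({1, 4, 16} : Finset ℕ) := by decide
      exact key _ (Nat.mem_divisors.2 ⟨hk, by norm_num⟩) hk1
    simp only [Finset.mem_insert, Finset.mem_singleton] at hk16
    rcases hk16 with e | e | e <;> rw [e] at hNm <;> rcases hr2 with e' | e' <;> rw [e'] at hrelm <;>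
      omega
  obtain ⟨hk4, hN12, hCR6⟩ := hfacts
  -- an element of order three of a normaliser lies in the Sylow subgroup
  have hin : ∀ (R' : Sylow 3 C) (z : C), z ∈ normalizer ((R' : Subgroup C) : Set C) → orderOf z = 3 →
      zpowers z = (R' : Subgroup C) := by
    intro R' z hz hzo
    have hsup : IsPGroup 3 ((zpowers z) ⊔ (R' : Subgroup C) : Subgroup C) :=
      (IsPGroup.of_card (n := 1) (by rw [Nat.card_zpowers, hzo, pow_one]) :
        IsPGroup 3 (zpowers z)).to_sup_of_normal_right' R'.isPGroup' (zpowers_le.2 hz)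
    exact eq_of_le_of_card_ge (le_sup_left.trans (R'.is_maximal' hsup le_sup_right).le)
      (by rw [hRc R', Nat.card_zpowers, hzo])
  -- a normal subgroup inside all normalisers
  set φ := MulAction.toPermHom C (Sylow 3 C) with hφ
  set K := φ.ker with hK
  haveI hKn : K.Normal := MonoidHom.normal_ker φ
  have hKN : ∀ R' : Sylow 3 C, K ≤ normalizer ((R' : Subgroup C) : Set C) := fun R' c hc =>
    Sylow.smul_eq_iff_mem_normalizer.1 (Equiv.ext_iff.1 (MonoidHom.mem_ker.1 hc) R')
  have hK3 : ¬ 3 ∣ Nat.card K := by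
    intro hd
    obtain ⟨z, hz⟩ := exists_prime_orderOf_dvd_card' (G := K) 3 hd
    have hzo : orderOf (z : C) = 3 := by rw [Subgroup.orderOf_coe, hz]
    haveI : Subsingleton (Sylow 3 C) := ⟨fun A B => Sylow.ext
      ((hin A z (hKN A z.2) hzo).symm.trans (hin B z (hKN B z.2) hzo))⟩
    have := Finite.card_le_one_iff_subsingleton.2 ‹_›
    omega
  have hKCR : K ≤ CR := by
    intro c hc
    rw [hCRy, mem_centralizer_singleton_iff]
    have h1 : c * y * c⁻¹ * y⁻¹ ∈ (R : Subgroup C) :=
      mul_mem ((mem_normalizer_iff.1 (hKN R hc) y).1 hyR) (inv_mem hyR)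
    have h2 : c * y * c⁻¹ * y⁻¹ ∈ K := by
      rw [show c * y * c⁻¹ * y⁻¹ = c * (y * c⁻¹ * y⁻¹) by group]
      exact mul_mem hc (hKn.conj_mem _ (inv_mem hc) y)
    have h3 : c * y * c⁻¹ * y⁻¹ = 1 := by
      by_contra hne
      refine hK3 ?_
      have := orderOf_eq_prime (p := 3) (by
        have := pow_card_eq_one' (x := (⟨_, h1⟩ : (R : Subgroup C)))
        rw [hRc R] at this
        exact congrArg Subtype.val this) hne
      exact this ▸ orderOf_dvd_natCard _ h2
    exact mul_inv_eq_iff_eq_mul.1 (mul_inv_eq_one.1 h3)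
  have hK2 : Nat.card K = 2 := by
    have hd : Nat.card K ∣ 6 := hCR6 ▸ card_dvd_of_le hKCR
    have ht'K : t' ∈ K := by
      rw [hK, MonoidHom.mem_ker]
      refine Equiv.ext fun R' => ?_
      refine Sylow.smul_eq_iff_mem_normalizer.2 (centralizer_le_normalizer _ ?_)
      exact mem_centralizer_iff.2 fun z _ => (htZ z).eq.symm
    have h2 : 2 ∣ Nat.card K := ht' ▸ orderOf_dvd_natCard _ ht'K
    have : Nat.card K ∈ Nat.divisors 6 := Nat.mem_divisors.2 ⟨hd, by norm_num⟩
    have key : ∀ k ∈ Nat.divisors 6, 2 ∣ k → ¬ 3 ∣ k → k = 2 := by decide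
    exact key _ this h2 hK3
  -- no normal Sylow subgroup
  have hno2 : ¬ ∃ S : Sylow 2 C, (S : Subgroup C).Normal := by
    rintro ⟨S, hS⟩
    have hSc : Nat.card (S : Subgroup C) = 16 := by
      rw [H62.card_sylow_coe (a := 4) (m := 3) (hC.trans (by norm_num)) (by norm_num) S]; norm_num
    have hle : (S : Subgroup C) ⊓ N ≤ CR := by
      intro c hc
      rw [hCRy, mem_centralizer_singleton_iff]
      have h1 : c * y * c⁻¹ * y⁻¹ ∈ (R : Subgroup C) :=
        mul_mem ((mem_normalizer_iff.1 hc.2 y).1 hyR) (inv_mem hyR)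
      have h2 : c * y * c⁻¹ * y⁻¹ ∈ (S : Subgroup C) := by
        rw [show c * y * c⁻¹ * y⁻¹ = c * (y * c⁻¹ * y⁻¹) by group]
        exact mul_mem hc.1 (hS.conj_mem _ (inv_mem hc.1) y)
      have h3 : c * y * c⁻¹ * y⁻¹ = 1 := by
        by_contra hne
        have h4 := orderOf_eq_prime (p := 3) (by
          have := pow_card_eq_one' (x := (⟨_, h1⟩ : (R : Subgroup C)))
          rw [hRc R] at this
          exact congrArg Subtype.val this) hne
        have h5 := Subgroup.orderOf_dvd_natCard _ h2
        rw [h4, hSc] at h5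
        norm_num at h5
      exact mul_inv_eq_iff_eq_mul.1 (mul_inv_eq_one.1 h3)
    obtain ⟨Q⟩ := (inferInstance : Nonempty (Sylow 2 N))
    have hQc : Nat.card (Q : Subgroup N) = 4 := by
      rw [H62.card_sylow_coe (a := 2) (m := 3) (hN12.trans (by norm_num)) (by norm_num) Q]; norm_num
    have hQS : (Q : Subgroup N).map N.subtype ≤ (S : Subgroup C) ⊓ N := by
      refine le_inf ?_ (map_subtype_le _)
      have hsup : IsPGroup 2 (((Q : Subgroup N).map N.subtype) ⊔ (S : Subgroup C) : Subgroup C) :=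
        (Q.isPGroup'.map N.subtype).to_sup_of_normal_right S.isPGroup'
      exact le_sup_left.trans (S.is_maximal' hsup le_sup_right).le
    have := card_dvd_of_le (hQS.trans hle)
    rw [card_map_of_injective N.subtype_injective, hQc, hCR6] at this
    norm_num at this
  have hno3 : ¬ (R : Subgroup C).Normal := fun h => by
    have h1 : N = ⊤ := normalizer_eq_top_iff.2 h
    rw [h1, card_top, hC] at hN12
    norm_num at hN12
  haveI hsol : Group.IsSolvable C := H33.isSolvable_of_two_primes Nat.prime_two Nat.prime_three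
    fun r hr hd => by
      rw [hC, show (48 : ℕ) = 2 ^ 4 * 3 by norm_num] at hd
      rcases (Nat.Prime.dvd_mul hr).1 hd with h | h
      · exact Or.inl ((Nat.prime_dvd_prime_iff_eq hr Nat.prime_two).1 (hr.dvd_of_dvd_pow h))
      · exact Or.inr ((Nat.prime_dvd_prime_iff_eq hr Nat.prime_three).1 h)
  have hO : Cfsg.oddCore C = ⊥ := by
    haveI := H1.pPrimeCore_normal' 2 C
    have hcop := H1.card_pPrimeCore_coprime 2 C
    have hd : Nat.card (Cfsg.pPrimeCore 2 C) ∣ 3 := by
      have h48 : Nat.card (Cfsg.pPrimeCore 2 C) ∣ 2 ^ 4 * 3 := by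
        have := (Cfsg.pPrimeCore 2 C).card_subgroup_dvd_card
        rwa [hC] at this
      exact (Nat.Coprime.pow_right 4 hcop).dvd_of_dvd_mul_left h48
    rcases (Nat.dvd_prime Nat.prime_three).1 hd with h | h
    · exact Subgroup.eq_bot_of_card_eq _ h
    · exfalso
      apply hno3
      obtain ⟨S, hS⟩ := (IsPGroup.of_card (p := 3) (n := 1) (by rw [h, pow_one]) :
        IsPGroup 3 (Cfsg.pPrimeCore 2 C)).exists_le_sylow
      have heq := eq_of_le_of_card_ge hS (by rw [hRc S, h])
      haveI : (S : Subgroup C).Normal := heq ▸ inferInstance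
      haveI := Sylow.unique_of_normal S inferInstance
      rw [Subsingleton.elim R S]
      infer_instance
  -- the two-core has rank one
  set P0 := Cfsg.pCore 2 C with hP0
  haveI hP0n : P0.Normal := H1.pCore_normal' 2 C
  have hP0p : IsPGroup 2 P0 := H1.isPGroup_pCore 2 C
  have hr1 : Cfsg.PRankLE 2 1 P0 := by
    intro A hAc hA2
    by_contra hlt
    obtain ⟨i, hi⟩ := (IsPGroup.iff_card.1 (hP0p.to_subgroup A))
    have hi2 : 2 ≤ i := by
      by_contra hh
      interval_cases i <;> simp_all
    have hA4 : 4 ∣ Nat.card A := hi ▸ pow_dvd_pow 2 hi2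
    have hP0d : Nat.card P0 ∣ 16 := by
      obtain ⟨j, hj⟩ := IsPGroup.iff_card.1 hP0p
      have h48 : 2 ^ j ∣ 2 ^ 4 * 3 := by
        have := P0.card_subgroup_dvd_card
        rwa [hC, hj] at this
      rw [hj]
      exact (Nat.Coprime.pow_left j (by norm_num)).dvd_of_dvd_mul_right h48
    have hne16 : Nat.card P0 ≠ 16 := by
      intro h16
      obtain ⟨S, hS⟩ := hP0p.exists_le_sylow
      have heq := eq_of_le_of_card_ge hS (by
        rw [h16, H62.card_sylow_coe (a := 4) (m := 3) (hC.trans (by norm_num)) (by norm_num) S]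
        norm_num)
      exact hno2 ⟨S, heq ▸ hP0n⟩
    have htP0 : t' ∈ P0 := by
      haveI : (zpowers t').Normal := ⟨fun x hx g => by
        obtain ⟨j, rfl⟩ := mem_zpowers_iff.1 hx
        rw [(((htZ g).symm).zpow_right j).eq, mul_inv_cancel_right]
        exact zpow_mem (mem_zpowers t') j⟩
      exact H1.le_pCore (IsPGroup.of_card (p := 2) (n := 1) (by rw [Nat.card_zpowers, ht', pow_one]))
        (mem_zpowers t')
    -- the elements of `P0` fixed by `y`
    have hfix : ∀ q ∈ P0, y * q * y⁻¹ = q → q = 1 ∨ q = t' := by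
      intro q hq hyq
      by_contra hne
      push Not at hne
      set I := P0 ⊓ CR with hI
      have hqI : q ∈ I := ⟨hq, by
        show q ∈ CR
        rw [hCRy, mem_centralizer_singleton_iff]
        exact (mul_inv_eq_iff_eq_mul.1 hyq).symm⟩
      have htI : t' ∈ I := ⟨htP0, mem_centralizer_iff.2 fun z _ => (htZ z).eq.symm⟩
      have hd : Nat.card I ∣ 2 := by
        have h1 : Nat.card I ∣ 6 := hCR6 ▸ card_dvd_of_le inf_le_right
        have h2 : Nat.card I ∣ 16 := (card_dvd_of_le inf_le_left).trans hP0d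
        exact (show Nat.gcd 6 16 = 2 by norm_num) ▸ Nat.dvd_gcd h1 h2
      let f : Fin 3 → I := ![1, ⟨t', htI⟩, ⟨q, hqI⟩]
      have hf : Function.Injective f := by
        intro i j hij
        have hv := congrArg Subtype.val hij
        have ht1 : t' ≠ 1 := fun h1 => by rw [h1, orderOf_one] at ht'; omega
        fin_cases i <;> fin_cases j <;> simp [f] at hv <;> first | rfl | (exfalso; first
          | exact ht1 hv | exact ht1 hv.symm | exact hne.1 hv | exact hne.1 hv.symm
          | exact hne.2 hv | exact hne.2 hv.symm)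
      have := Nat.card_le_card_of_injective f hf
      rw [Nat.card_fin] at this
      have := Nat.le_of_dvd (by norm_num) hd
      omega
    obtain ⟨a, haA, ha1, hat⟩ : ∃ a : P0, a ∈ A ∧ (a : C) ≠ 1 ∧ (a : C) ≠ t' := by
      by_contra hno
      push Not at hno
      let f : A → Bool := fun x => decide ((x : C) = 1)
      have hf : Function.Injective f := by
        intro p q hpq
        apply Subtype.ext; apply Subtype.ext
        simp only [f, decide_eq_decide] at hpq
        by_cases hp : ((p : P0) : C) = 1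
        · rw [hp, hpq.1 hp]
        · rw [hno p p.2 hp, hno q q.2 (fun h => hp (hpq.2 h))]
      have := Nat.card_le_card_of_injective f hf
      rw [Nat.card_eq_fintype_card (α := Bool), Fintype.card_bool] at this
      have := Nat.le_of_dvd Nat.card_pos hA4
      omega
    set a₀ : C := (a : C) with ha₀
    have haP : a₀ ∈ P0 := a.2
    have haa : a₀ * a₀ = 1 := by
      have := congrArg Subtype.val (hA2 a haA)
      rw [pow_two] at this
      exact this
    have hconj : ∀ q ∈ P0, y * q * y⁻¹ ∈ P0 := fun q hq => hP0n.conj_mem q hq y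
    have hy3 : y * y * y = 1 := by
      have := pow_orderOf_eq_one y
      rw [hyo, pow_succ, pow_two] at this
      exact this
    have htt : t' * t' = 1 := by rw [← pow_two, ← ht', pow_orderOf_eq_one]
    -- the eight elements of `P0`
    have hyfix : y * t' * y⁻¹ = t' := by rw [← (htZ y).eq, mul_inv_cancel_right]
    have hP08 : ∀ q₀ ∈ P0, q₀ * q₀ = 1 → q₀ ≠ 1 → q₀ ≠ t' → Nat.card P0 = 8 ∧ ∀ q ∈ P0, ∃ x z : C,
        q = x * z ∧ (z = 1 ∨ z = t') ∧
          (x = 1 ∨ x = q₀ ∨ x = y * q₀ * y⁻¹ ∨ x = y * (y * q₀ * y⁻¹) * y⁻¹) := by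
      intro q₀ hq₀ hq₀s h1 h2
      set q₁ := y * q₀ * y⁻¹ with hq₁
      set q₂ := y * q₁ * y⁻¹ with hq₂
      have hc : ∀ g : C, y * (g * t') * y⁻¹ = y * g * y⁻¹ * t' := fun g => by
        conv_rhs => rw [← hyfix]
        group
      have hback : y * q₂ * y⁻¹ = q₀ := by
        rw [hq₂, hq₁, show y * (y * (y * q₀ * y⁻¹) * y⁻¹) * y⁻¹ = (y * y * y) * q₀ * (y * y * y)⁻¹ by group,
          hy3, one_mul, inv_one, mul_one]
      have m01 : q₁ ≠ q₀ := fun h => by rcases hfix q₀ hq₀ h with e | e <;> contradiction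
      have m12 : q₂ ≠ q₁ := fun h => m01 (mul_left_cancel (mul_right_cancel h))
      have m20 : q₀ ≠ q₂ := fun h => m12 (mul_left_cancel (mul_right_cancel (hback.trans h))).symm.symm
      have n01 : q₁ ≠ q₀ * t' := fun h => by
        apply m20
        rw [hq₂, h, hc, ← hq₁, h, mul_assoc, htt, mul_one]
      have n12 : q₂ ≠ q₁ * t' := fun h => n01 (by
        have h' : y * q₁ * y⁻¹ = y * (q₀ * t') * y⁻¹ := by rw [hc]; exact h
        exact mul_left_cancel (mul_right_cancel h'))
      have n20 : q₀ ≠ q₂ * t' := fun h => n12 (by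
        have h' : y * q₂ * y⁻¹ = y * (q₁ * t') * y⁻¹ := by rw [hc, hback]; exact h
        exact mul_left_cancel (mul_right_cancel h'))
      have hne : ∀ g ∈ ([q₀, q₁, q₂] : List C), g ≠ 1 ∧ g ≠ t' := by
        have a1 : q₁ ≠ 1 ∧ q₁ ≠ t' := ⟨fun h => h1 (conj_eq_one_iff.1 h), fun h => h2 (by
          rw [← hyfix] at h; exact mul_left_cancel (mul_right_cancel h))⟩
        have a2 : q₂ ≠ 1 ∧ q₂ ≠ t' := ⟨fun h => a1.1 (conj_eq_one_iff.1 h), fun h => a1.2 (by
          rw [← hyfix] at h; exact mul_left_cancel (mul_right_cancel h))⟩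
        intro g hg
        simp only [List.mem_cons, List.not_mem_nil, or_false] at hg
        rcases hg with rfl | rfl | rfl <;> [exact ⟨h1, h2⟩; exact a1; exact a2]
      obtain ⟨x01, x02⟩ := hne q₀ (by simp)
      obtain ⟨x11, x12⟩ := hne q₁ (by simp)
      obtain ⟨x21, x22⟩ := hne q₂ (by simp)
      have ht1 : t' ≠ 1 := fun h => by rw [h, orderOf_one] at ht'; omega
      have hqP : q₁ ∈ P0 ∧ q₂ ∈ P0 := ⟨hconj _ hq₀, hconj _ (hconj _ hq₀)⟩
      let e : Fin 4 → C := ![1, q₀, q₁, q₂]
      have hnotin : ∀ i j, i ≠ j → e i ≠ e j ∧ e i ≠ e j * t' := by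
        intro i j hij
        have sym : ∀ g g' : C, g ≠ g' * t' → g' ≠ g * t' := fun g g' h h' => h (by
          rw [h', mul_assoc, htt, mul_one])
        fin_cases i <;> fin_cases j <;>
          simp only [e, Matrix.cons_val_zero, Matrix.cons_val_one, Matrix.cons_val, Fin.zero_eta,
            Fin.mk_one, Fin.reduceFinMk, one_mul, ne_eq, not_true_eq_false] at hij ⊢ <;>
          first
          | exact ⟨x01.symm, sym _ _ (by rw [one_mul]; exact x02)⟩
          | exact ⟨x11.symm, sym _ _ (by rw [one_mul]; exact x12)⟩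
          | exact ⟨x21.symm, sym _ _ (by rw [one_mul]; exact x22)⟩
          | exact ⟨x01, x02⟩
          | exact ⟨x11, x12⟩
          | exact ⟨x21, x22⟩
          | exact ⟨m01, n01⟩
          | exact ⟨m01.symm, sym _ _ n01⟩
          | exact ⟨m12, n12⟩
          | exact ⟨m12.symm, sym _ _ n12⟩
          | exact ⟨m20, n20⟩
          | exact ⟨m20.symm, sym _ _ n20⟩
      have heP : ∀ i, e i ∈ P0 := by
        intro i
        fin_cases i <;> simp [e, hq₀, hqP.1, hqP.2]
      let f : Fin 4 × Bool → P0 := fun o => ⟨e o.1 * if o.2 then t' else 1, mul_mem (heP _) (by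
        split_ifs <;> [exact htP0; exact one_mem P0])⟩
      have hf : Function.Injective f := by
        rintro ⟨i, u⟩ ⟨j, w⟩ h
        have hv : e i * (if u then t' else 1) = e j * (if w then t' else 1) := congrArg Subtype.val h
        by_cases hij : i = j
        · subst hij
          have := mul_left_cancel hv
          cases u <;> cases w <;> simp_all
        · obtain ⟨z1, z2⟩ := hnotin i j hij
          cases u <;> cases w <;>
            simp only [if_true, if_false, Bool.false_eq_true, mul_one] at hv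
          · exact absurd hv z1
          · exact absurd hv z2
          · exact absurd (show e i = e j * t' by rw [← hv, mul_assoc, htt, mul_one]) z2
          · exact absurd (mul_right_cancel hv) z1
      have h8le := Nat.card_le_card_of_injective f hf
      rw [Nat.card_prod, Nat.card_fin, Nat.card_eq_fintype_card (α := Bool), Fintype.card_bool] at h8le
      have h8 : Nat.card P0 = 8 := by
        have key : ∀ k ∈ Nat.divisors 16, 8 ≤ k → k ≠ 16 → k = 8 := by decide
        exact key _ (Nat.mem_divisors.2 ⟨hP0d, by norm_num⟩) (by omega) hne16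
      refine ⟨h8, fun q hq => ?_⟩
      obtain ⟨⟨i, u⟩, hiu⟩ := ((Nat.bijective_iff_injective_and_card f).2 ⟨hf, by
        rw [Nat.card_prod, Nat.card_fin, Nat.card_eq_fintype_card (α := Bool), Fintype.card_bool, h8]⟩).2 ⟨q, hq⟩
      refine ⟨e i, if u then t' else 1, (congrArg Subtype.val hiu).symm, by cases u <;> simp, ?_⟩
      fin_cases i <;> simp [e, hq₁, hq₂]
    obtain ⟨h8, hcov⟩ := hP08 a₀ haP haa ha1 hat
    have hsq : ∀ q ∈ P0, q * q = 1 := by
      intro q hq
      obtain ⟨x, z, rfl, hz, hx⟩ := hcov q hq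
      have hxx : x * x = 1 := by
        rcases hx with rfl | rfl | rfl | rfl
        · exact one_mul 1
        · exact haa
        · exact H62.sq_conj_eq_one haa y
        · exact H62.sq_conj_eq_one (H62.sq_conj_eq_one haa y) y
      rcases hz with rfl | rfl
      · rwa [mul_one]
      · rw [show x * t' * (x * t') = x * (t' * x) * t' by group, (htZ x).eq,
          show x * (x * t') * t' = (x * x) * (t' * t') by group, hxx, htt, one_mul]
    have hab : ∀ p ∈ P0, ∀ q ∈ P0, p * q = q * p := fun p hp q hq => by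
      have hp' : p⁻¹ = p := inv_eq_of_mul_eq_one_right (hsq p hp)
      have hq' : q⁻¹ = q := inv_eq_of_mul_eq_one_right (hsq q hq)
      calc p * q = (p * q)⁻¹ := (inv_eq_of_mul_eq_one_right (hsq _ (mul_mem hp hq))).symm
        _ = q * p := by rw [mul_inv_rev, hp', hq']
    have hne_t : ∀ q : C, q * t' = q → False := fun q h => by
      have h1 := mul_eq_left.1 h; rw [h1, orderOf_one] at ht'; omega
    -- choose `a` so that the product of its conjugates is trivial
    obtain ⟨a, haP, ha1, hat, habc⟩ : ∃ a ∈ P0, a ≠ 1 ∧ a ≠ t' ∧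
        a * (y * a * y⁻¹) * (y * (y * a * y⁻¹) * y⁻¹) = 1 := by
      set q₁ := y * a₀ * y⁻¹ with hq₁
      set q₂ := y * q₁ * y⁻¹ with hq₂
      have hb : q₁ ∈ P0 := hconj _ haP
      have hc : q₂ ∈ P0 := hconj _ hb
      have hback : y * q₂ * y⁻¹ = a₀ := by
        rw [hq₂, hq₁, show y * (y * (y * a₀ * y⁻¹) * y⁻¹) * y⁻¹ = (y * y * y) * a₀ * (y * y * y)⁻¹ by group,
          hy3, one_mul, inv_one, mul_one]
      have hcfix : y * (a₀ * q₁ * q₂) * y⁻¹ = a₀ * q₁ * q₂ := by
        calc y * (a₀ * q₁ * q₂) * y⁻¹ = q₁ * q₂ * (y * q₂ * y⁻¹) := by rw [hq₂, hq₁]; group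
          _ = q₁ * q₂ * a₀ := by rw [hback]
          _ = a₀ * q₁ * q₂ := by rw [hab _ (mul_mem hb hc) _ haP, ← mul_assoc]
      rcases hfix _ (mul_mem (mul_mem haP hb) hc) hcfix with h | h
      · exact ⟨a₀, haP, ha1, hat, h⟩
      · refine ⟨a₀ * t', mul_mem haP htP0, fun h1 => hat ?_, fun h1 => ha1 (mul_eq_right.1 h1), ?_⟩
        · exact (eq_inv_of_mul_eq_one_left h1).trans (inv_eq_of_mul_eq_one_right htt)
        · have e : ∀ g : C, y * (g * t') * y⁻¹ = y * g * y⁻¹ * t' := fun g => by
            conv_rhs => rw [← hyfix]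
            group
          rw [e, e, ← hq₁, ← hq₂]
          calc a₀ * t' * (q₁ * t') * (q₂ * t')
              = a₀ * (t' * q₁) * (t' * q₂) * t' := by group
            _ = a₀ * (q₁ * t') * (t' * q₂) * t' := by rw [(htZ q₁).eq]
            _ = a₀ * q₁ * (t' * t') * q₂ * t' := by group
            _ = 1 := by rw [htt, mul_one, h, htt]
    set b := y * a * y⁻¹ with hbdef
    set c := y * b * y⁻¹ with hcdef
    have hbP : b ∈ P0 := hconj _ haP
    have hcP : c ∈ P0 := hconj _ hbP
    have hyc : y * c * y⁻¹ = a := by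
      rw [hcdef, hbdef, show y * (y * (y * a * y⁻¹) * y⁻¹) * y⁻¹ = (y * y * y) * a * (y * y * y)⁻¹ by group,
        hy3, one_mul, inv_one, mul_one]
    have hcab : c = a * b := by
      rw [← inv_eq_of_mul_eq_one_right (show a * b * (a * b) = 1 from hsq _ (mul_mem haP hbP))]
      exact (inv_eq_of_mul_eq_one_right habc).symm
    obtain ⟨-, hcov'⟩ := hP08 a haP (hsq a haP) ha1 hat
    -- an element inverting `y`
    obtain ⟨Q⟩ := (inferInstance : Nonempty (Sylow 2 N))
    have hQc : Nat.card ((Q : Subgroup N).map N.subtype) = 4 := by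
      rw [card_map_of_injective N.subtype_injective,
        H62.card_sylow_coe (a := 2) (m := 3) (hN12.trans (by norm_num)) (by norm_num) Q]
      norm_num
    set Q' := (Q : Subgroup N).map N.subtype with hQ'
    obtain ⟨r, hrQ, hrC⟩ := Set.not_subset.1 (show ¬ ((Q' : Set C) ⊆ (CR : Set C)) from fun hle => by
      have := card_dvd_of_le (show Q' ≤ CR from hle)
      rw [hQc, hCR6] at this
      norm_num at this)
    have hrN : r ∈ N := map_subtype_le _ hrQ
    have hry : r * y * r⁻¹ = y⁻¹ := by
      have h1 : r * y * r⁻¹ ∈ zpowers y := hRy ▸ (mem_normalizer_iff.1 hrN y).1 hyR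
      obtain ⟨j, hj⟩ := (isOfFinOrder_of_finite y).mem_powers_iff_mem_zpowers.2 h1
      simp only at hj
      rw [← pow_mod_orderOf, hyo] at hj
      have : j % 3 < 3 := Nat.mod_lt _ (by norm_num)
      rcases (show j % 3 = 0 ∨ j % 3 = 1 ∨ j % 3 = 2 by omega) with e | e | e <;> rw [e] at hj
      · exact absurd (conj_eq_one_iff.1 (hj.symm.trans (pow_zero y))) hy1
      · exfalso
        apply hrC
        rw [hCRy, SetLike.mem_coe, mem_centralizer_singleton_iff]
        exact mul_inv_eq_iff_eq_mul.1 (hj.symm.trans (pow_one y))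
      · rw [← hj]
        exact eq_inv_of_mul_eq_one_left (by rw [← pow_succ, show (2 + 1 : ℕ) = 3 from rfl, ← hyo, pow_orderOf_eq_one])
    have hrP0 : r ∉ P0 := by
      intro hr
      have h1 : r * (y * r⁻¹ * y⁻¹) ∈ P0 := mul_mem hr (hP0n.conj_mem _ (inv_mem hr) y)
      rw [show r * (y * r⁻¹ * y⁻¹) = r * y * r⁻¹ * y⁻¹ by group, hry] at h1
      have h2 := Subgroup.orderOf_dvd_natCard _ h1
      rw [show y⁻¹ * y⁻¹ = y by
        rw [← mul_inv_rev]; exact inv_eq_of_mul_eq_one_right (by rw [mul_assoc] at hy3; rw [mul_assoc]; exact hy3),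
        hyo, h8] at h2
      norm_num at h2
    have hrr : r * r ∈ P0 := by
      have htQ : t' ∈ Q' := by
        have htN : t' ∈ N := centralizer_le_normalizer _ (mem_centralizer_iff.2 fun z _ => (htZ z).eq.symm)
        refine ⟨⟨t', htN⟩, ?_, rfl⟩
        haveI : (zpowers (⟨t', htN⟩ : N)).Normal := ⟨fun x hx g => by
          obtain ⟨j, rfl⟩ := mem_zpowers_iff.1 hx
          have hcm : Commute g (⟨t', htN⟩ : N) := Subtype.ext (htZ (g : C)).eq.symm
          rw [(hcm.zpow_right j).eq, mul_inv_cancel_right]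
          exact zpow_mem (mem_zpowers _) j⟩
        have hp : IsPGroup 2 (zpowers (⟨t', htN⟩ : N)) :=
          IsPGroup.of_card (n := 1) (by
            rw [Nat.card_zpowers, ← Subgroup.orderOf_coe]; simpa using ht')
        exact (le_sup_left.trans (Q.is_maximal' (hp.to_sup_of_normal_left Q.isPGroup') le_sup_right).le)
          (mem_zpowers _)
      have hI : Nat.card ↥(Q' ⊓ CR) ∣ 2 := by
        have h1 : Nat.card ↥(Q' ⊓ CR) ∣ 4 := hQc ▸ card_dvd_of_le inf_le_left
        have h2 : Nat.card ↥(Q' ⊓ CR) ∣ 6 := hCR6 ▸ card_dvd_of_le inf_le_right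
        exact (show Nat.gcd 4 6 = 2 by norm_num) ▸ Nat.dvd_gcd h1 h2
      have hrrC : r * r ∈ CR := by
        rw [hCRy, mem_centralizer_singleton_iff]
        have h1 : r * y⁻¹ * r⁻¹ = y := by
          rw [show r * y⁻¹ * r⁻¹ = (r * y * r⁻¹)⁻¹ by group, hry, inv_inv]
        calc r * r * y = r * (r * y * r⁻¹) * r := by group
          _ = (r * y⁻¹ * r⁻¹) * (r * r) := by rw [hry]; group
          _ = y * (r * r) := by rw [h1]
      rcases mem_pair hI (⟨htQ, mem_centralizer_iff.2 fun z _ => (htZ z).eq.symm⟩ : t' ∈ Q' ⊓ CR)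
        (fun h => by rw [h, orderOf_one] at ht'; omega) (⟨mul_mem hrQ hrQ, hrrC⟩ : r * r ∈ Q' ⊓ CR)
        with e | e <;> rw [e]
      · exact one_mem _
      · exact htP0
    have hrconj : ∀ q ∈ P0, r * q * r⁻¹ ∈ P0 := fun q hq => hP0n.conj_mem q hq r
    have hrt : r * t' * r⁻¹ = t' := by rw [← (htZ r).eq, mul_inv_cancel_right]
    have hyr : ∀ g : C, y * (r * g * r⁻¹) * y⁻¹ = r * (y⁻¹ * g * y) * r⁻¹ := fun g => by
      have e1 : y * r = r * y⁻¹ := by
        rw [show r * y⁻¹ = (r * y * r⁻¹)⁻¹ * r by group, hry, inv_inv]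
      calc y * (r * g * r⁻¹) * y⁻¹ = (y * r) * g * (y * r)⁻¹ := by group
        _ = _ := by rw [e1]; group
    have hra' : r * a * r⁻¹ = a ∨ r * a * r⁻¹ = b ∨ r * a * r⁻¹ = c := by
      set a' := r * a * r⁻¹ with ha'
      have e1 : y * a' * y⁻¹ = r * c * r⁻¹ := by
        rw [ha', hyr]
        congr 2
        conv_lhs => rw [← hyc]
        group
      have e2 : y * (r * c * r⁻¹) * y⁻¹ = r * b * r⁻¹ := by
        rw [hyr]
        congr 2
        rw [hcdef]; group
      have hprod : a' * (y * a' * y⁻¹) * (y * (y * a' * y⁻¹) * y⁻¹) = 1 := by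
        rw [e1, e2, ha']
        calc r * a * r⁻¹ * (r * c * r⁻¹) * (r * b * r⁻¹) = r * (a * (c * b)) * r⁻¹ := by group
          _ = r * (a * (b * c)) * r⁻¹ := by rw [hab c hcP b hbP]
          _ = 1 := by rw [← mul_assoc a b c, habc, mul_one, mul_inv_cancel]
      obtain ⟨x, z, hxz, hz, hx⟩ := hcov' a' (hrconj a haP)
      have ha'1 : a' ≠ 1 ∧ a' ≠ t' := ⟨fun h => ha1 (conj_eq_one_iff.1 h), fun h => hat (by
        rw [ha', ← hrt] at h; exact mul_left_cancel (mul_right_cancel h))⟩
      rw [← hbdef, ← hcdef] at hx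
      rcases hz with rfl | rfl
      · rw [mul_one] at hxz
        rcases hx with rfl | rfl | rfl | rfl
        · exact absurd hxz ha'1.1
        · exact Or.inl hxz
        · exact Or.inr (Or.inl hxz)
        · exact Or.inr (Or.inr hxz)
      · exfalso
        rcases hx with rfl | hx
        · exact ha'1.2 (hxz.trans (one_mul _))
        have hxP : x ∈ P0 ∧ x * (y * x * y⁻¹) * (y * (y * x * y⁻¹) * y⁻¹) = 1 := by
          rcases hx with rfl | rfl | rfl
          · exact ⟨haP, habc⟩
          · refine ⟨hbP, ?_⟩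
            rw [← hcdef, hyc, hab _ (mul_mem hbP hcP) _ haP, ← mul_assoc, habc]
          · refine ⟨hcP, ?_⟩
            rw [hyc, ← hbdef, mul_assoc, hab c hcP _ (mul_mem haP hbP), habc]
        rw [hxz] at hprod
        have e : ∀ g : C, y * (g * t') * y⁻¹ = y * g * y⁻¹ * t' := fun g => by
          conv_rhs => rw [← hyfix]
          group
        rw [e, e] at hprod
        set x₁ := y * x * y⁻¹
        set x₂ := y * x₁ * y⁻¹
        have e3 : x * t' * (x₁ * t') * (x₂ * t') = t' := by
          calc x * t' * (x₁ * t') * (x₂ * t') = x * (t' * x₁) * (t' * x₂) * t' := by group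
            _ = x * (x₁ * t') * (t' * x₂) * t' := by rw [(htZ x₁).eq]
            _ = x * x₁ * (t' * t') * x₂ * t' := by group
            _ = t' := by rw [htt, mul_one, hxP.2, one_mul]
        rw [e3] at hprod
        rw [hprod, orderOf_one] at ht'
        omega
    have hrb : r * b * r⁻¹ = y⁻¹ * (r * a * r⁻¹) * y := by
      have h1 := hyr b
      rw [show y⁻¹ * b * y = a by rw [hbdef]; group] at h1
      rw [← h1]; group
    -- the fixed element and the moved one
    obtain ⟨u, v, huP, hvP, hu1, hut, hru, hrv, hga, hgb⟩ : ∃ u v, u ∈ P0 ∧ v ∈ P0 ∧ u ≠ 1 ∧ u ≠ t' ∧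
        r * u * r⁻¹ = u ∧ r * v * r⁻¹ = u * v ∧ (r * a * r⁻¹ = a ∨ r * a * r⁻¹ = u * a) ∧
        (r * b * r⁻¹ = b ∨ r * b * r⁻¹ = u * b) := by
      have hb1 : b ≠ 1 := fun h => ha1 (conj_eq_one_iff.1 h)
      have hc1 : c ≠ 1 := fun h => hb1 (conj_eq_one_iff.1 h)
      have hbt : b ≠ t' := fun h => hat (by rw [hbdef, ← hyfix] at h; exact mul_left_cancel (mul_right_cancel h))
      have hct : c ≠ t' := fun h => hbt (by rw [hcdef, ← hyfix] at h; exact mul_left_cancel (mul_right_cancel h))
      have hyca : y⁻¹ * a * y = c := by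
        calc y⁻¹ * a * y = y⁻¹ * (y * c * y⁻¹) * y := by rw [hyc]
          _ = c := by group
      have hycb : y⁻¹ * b * y = a := by rw [hbdef]; group
      have hycc : y⁻¹ * c * y = b := by rw [hcdef]; group
      rcases hra' with e | e | e <;> rw [e] at hrb
      · rw [hyca] at hrb
        exact ⟨a, b, haP, hbP, ha1, hat, e, hrb.trans hcab, Or.inl e, Or.inr (hrb.trans hcab)⟩
      · rw [hycb] at hrb
        have hca : c * a = b := by
          rw [hcab, hab a haP b hbP, mul_assoc, hsq a haP, mul_one]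
        have hcb : c * b = a := by rw [hcab, mul_assoc, hsq b hbP, mul_one]
        refine ⟨c, a, hcP, haP, hc1, hct, ?_, e.trans hca.symm, Or.inr (e.trans hca.symm),
          Or.inr (hrb.trans hcb.symm)⟩
        have h1 := hyr c
        rw [hycc, hrb] at h1
        calc r * c * r⁻¹ = y⁻¹ * (y * (r * c * r⁻¹) * y⁻¹) * y := by group
          _ = c := by rw [h1, hyca]
      · rw [hycc] at hrb
        have hba : b * a = c := by rw [hcab, hab a haP b hbP]
        exact ⟨b, a, hbP, haP, hb1, hbt, hrb, e.trans hba.symm, Or.inr (e.trans hba.symm), Or.inl hrb⟩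
    have hgood : ∀ q ∈ P0, r * q * r⁻¹ = q ∨ r * q * r⁻¹ = u * q := by
      have hmul : ∀ p ∈ P0, ∀ q ∈ P0, (r * p * r⁻¹ = p ∨ r * p * r⁻¹ = u * p) →
          (r * q * r⁻¹ = q ∨ r * q * r⁻¹ = u * q) →
          (r * (p * q) * r⁻¹ = p * q ∨ r * (p * q) * r⁻¹ = u * (p * q)) := by
        intro p hp q _ h1 h2
        rw [show r * (p * q) * r⁻¹ = (r * p * r⁻¹) * (r * q * r⁻¹) by group]
        rcases h1 with e | e <;> rcases h2 with e' | e' <;> rw [e, e']
        · exact Or.inl rfl
        · exact Or.inr (by rw [← mul_assoc, hab p hp u huP, mul_assoc])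
        · exact Or.inr (mul_assoc _ _ _)
        · exact Or.inl (by
            rw [show u * p * (u * q) = u * (p * u) * q by group, hab p hp u huP,
              show u * (u * p) * q = (u * u) * p * q by group, hsq u huP, one_mul])
      have h1good : r * (1 : C) * r⁻¹ = 1 ∨ r * (1 : C) * r⁻¹ = u * 1 := Or.inl (by group)
      intro q hq
      obtain ⟨x, z, rfl, hz, hx⟩ := hcov' q hq
      rw [← hbdef, ← hcdef] at hx
      have hzP : z ∈ P0 := by rcases hz with rfl | rfl <;> [exact one_mem P0; exact htP0]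
      have hxP : x ∈ P0 := by
        rcases hx with rfl | rfl | rfl | rfl <;> [exact one_mem P0; exact haP; exact hbP; exact hcP]
      refine hmul x hxP z hzP ?_ (by rcases hz with rfl | rfl <;> [exact h1good; exact Or.inl hrt])
      rcases hx with rfl | rfl | rfl | rfl
      · exact h1good
      · exact hga
      · exact hgb
      · rw [hcab]; exact hmul a haP b hbP hga hgb
    have hinj := Subtype.val_injective (p := fun g : G => g ∈ C)
    refine false_of_elementary hG (P0.map C.subtype)
      (by rw [card_map_of_injective C.subtype_injective, h8]) ?_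
      (r := (r : G)) (t := (t' : G)) (a := (u : G)) (b := (v : G)) ?_ ?_ ?_ ?_ ?_ ?_ ?_ ?_ ?_ ?_ ?_ ?_ ?_
    · rintro _ ⟨q, hq, rfl⟩
      exact congrArg Subtype.val (hsq q hq)
    · rintro _ ⟨q, hq, rfl⟩
      exact ⟨r * q * r⁻¹, hrconj q hq, rfl⟩
    · rintro ⟨q, hq, hqr⟩
      exact hrP0 (hinj hqr ▸ hq)
    · exact ⟨r * r, hrr, rfl⟩
    · exact ⟨t', htP0, rfl⟩
    · exact ⟨u, huP, rfl⟩
    · exact ⟨v, hvP, rfl⟩
    · exact fun h => by rw [← Subgroup.orderOf_coe, h, orderOf_one] at ht'; omega
    · exact fun h => hu1 (hinj h)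
    · exact fun h => hut (hinj h).symm
    · exact congrArg Subtype.val hrt
    · exact congrArg Subtype.val hru
    · exact congrArg Subtype.val hrv
    · rintro _ ⟨q, hq, rfl⟩
      rcases hgood q hq with e | e
      · exact Or.inl (congrArg Subtype.val e)
      · exact Or.inr (congrArg Subtype.val e)
  rcases H70.Octa.classify hO hr1 with h | h | ⟨-, -, -, hquat⟩
  · exact absurd h hno2
  · exact h
  · exfalso
    obtain ⟨S⟩ := (inferInstance : Nonempty (Sylow 2 C))
    obtain ⟨e⟩ := hquat S
    have hSc : Nat.card (S : Subgroup C) = 16 := by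
      rw [H62.card_sylow_coe (a := 4) (m := 3) (hC.trans (by norm_num)) (by norm_num) S]; norm_num
    obtain ⟨S', hS'⟩ := (S.isPGroup'.map C.subtype).exists_le_sylow
    have hS'e : (S : Subgroup C).map C.subtype = (S' : Subgroup G) := eq_of_le_of_card_ge hS' (by
      rw [card_map_of_injective C.subtype_injective, hSc,
        H62.card_sylow_coe (a := 4) (m := 351) (hG.trans (by norm_num)) (by norm_num) S']
      norm_num)
    have e' : (S' : Subgroup G) ≃* QuaternionGroup (2 ^ (0 + 2)) :=
      ((MulEquiv.subgroupCongr hS'e.symm).trans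
        (equivMapOfInjective _ _ C.subtype_injective).symm).trans e
    have hz := H14.brauer_suzuki_center S' 0 e' fun M hM hodd =>
      hM.eq_bot_or_eq_top.resolve_right fun htop => by
        rw [htop, card_top, hG] at hodd
        exact absurd hodd (by decide)
    have hna : ¬ IsMulCommutative G := H62.not_comm_of_not_prime (by rw [hG]; norm_num)
    rw [H62.center_eq_bot_of_simple hna, card_bot] at hz
    omega

end Unique5616
end SmallOrder
end H4
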