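/-
The simple groups of order 5616 are isomorphic.
-/
import Cfsg.Agent.H4.SmallOrder.Unique.Local5616
import Cfsg.Agent.S2916
import Cfsg.Agent.H37.SmallIsoBase

set_option autoImplicit false
set_option linter.unusedSectionVars false

open Subgroup

namespace H4
namespace SmallOrder
namespace Unique5616

universe u v

theorem psl_three_three {G : Type u} [Group G] [Finite G] [IsSimpleGroup G] (hG : Nat.card G = 5616) :
    Nonempty (G ≃* Matrix.ProjectiveSpecialLinearGroup (Fin 3) (ZMod 3)) := by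
  haveI : Fact (Nat.Prime 2) := ⟨Nat.prime_two⟩
  haveI h3 : Fact (Nat.Prime 3) := ⟨Nat.prime_three⟩
  have hO : Cfsg.pResidual 2 G = ⊤ := by
    have hn : (Cfsg.pResidual 2 G).Normal := by
      refine ⟨fun x hx g => ?_⟩
      have h := Subgroup.mem_map_of_mem (MulAut.conj g).toMonoidHom hx
      rw [Cfsg.pResidual, MonoidHom.map_closure] at h
      refine Subgroup.closure_mono ?_ h
      rintro _ ⟨y, hy, rfl⟩
      show Nat.Coprime (orderOf ((MulAut.conj g) y)) 2
      rw [(MulAut.conj g).orderOf_eq]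
      exact hy
    refine hn.eq_bot_or_eq_top.resolve_left fun hb => ?_
    haveI : Fact (Nat.Prime 13) := ⟨by norm_num⟩
    obtain ⟨x, hx⟩ := exists_prime_orderOf_dvd_card' (G := G) 13 (by rw [hG]; norm_num)
    have hmem : x ∈ Cfsg.pResidual 2 G :=
      Subgroup.subset_closure (show Nat.Coprime (orderOf x) 2 by rw [hx]; norm_num)
    rw [hb, Subgroup.mem_bot] at hmem
    rw [hmem, orderOf_one] at hx
    omega
  obtain ⟨t, ht⟩ := exists_prime_orderOf_dvd_card' (G := G) 2 (by rw [hG]; norm_num)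
  rcases Cfsg.Agent.S2916.result hO t ht (centralizer_iso hG ht) with ⟨F, _, _, hF, ⟨e⟩⟩ | h
  · haveI : Fact (Nat.Prime 3) := h3
    have hFF : Nonempty (ZMod 3 ≃+* F) := ⟨FiniteField.ringEquivOfCardEq (by rw [ZMod.card, hF])⟩
    obtain ⟨f⟩ := hFF
    exact ⟨e.trans (H37.pslCongr f.symm)⟩
  · exfalso
    obtain ⟨e⟩ := (h : Nonempty (G ≃* Cfsg.Spor.M11))
    have := Nat.card_congr e.toEquiv
    rw [hG, H87.natCard_M11] at this
    omega

theorem iso_of_card {G : Type u} [Group G] [Finite G] [IsSimpleGroup G] {H : Type v} [Group H]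
    [Finite H] [IsSimpleGroup H] (hG : Nat.card G = 5616) (hH : Nat.card H = 5616) :
    Nonempty (G ≃* H) := by
  obtain ⟨e⟩ := psl_three_three hG
  obtain ⟨f⟩ := psl_three_three hH
  exact ⟨e.trans f.symm⟩

end Unique5616
end SmallOrder
end H4
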